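import Groth.Agent.Misc12.Quad.Rep
import Mathlib.LinearAlgebra.Matrix.NonsingularInverse
import Mathlib.LinearAlgebra.Matrix.Rank

/-!
Lifting isometry matrices along square-zero ideals, and the obstruction in odd rank when `2` is not a unit.
-/

set_option autoImplicit false
set_option linter.unusedSectionVars false

noncomputable section

open Matrix

universe u

namespace Groth.Misc12.Quad

variable {A : Type u} [CommRing A] {n : ℕ}

section cfAlg

theorem cf_add (M N : Matrix (Fin n) (Fin n) A) : cf (M + N) = cf M + cf N := by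
  funext z
  induction z using Sym2.inductionOn with
  | hf i j => simp only [Pi.add_apply, cf_mk, Matrix.add_apply]; split_ifs <;> ring

theorem cf_smul (c : A) (M : Matrix (Fin n) (Fin n) A) : cf (c • M) = c • cf M := by
  funext z
  induction z using Sym2.inductionOn with
  | hf i j => simp only [Pi.smul_apply, cf_mk, Matrix.smul_apply, smul_eq_mul]; split_ifs <;> ring

theorem cf_zero : cf (0 : Matrix (Fin n) (Fin n) A) = 0 := by
  funext z
  induction z using Sym2.inductionOn with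
  | hf i j => simp [cf_mk]

theorem cf_transpose (M : Matrix (Fin n) (Fin n) A) : cf Mᵀ = cf M := by
  funext z
  induction z using Sym2.inductionOn with
  | hf i j => simp only [cf_mk, Matrix.transpose_apply]; split_ifs <;> ring

theorem cf_sub (M N : Matrix (Fin n) (Fin n) A) : cf (M - N) = cf M - cf N := by
  rw [eq_sub_iff_add_eq, ← cf_add, sub_add_cancel]

/-- The upper triangular matrix with given coefficients. -/
def upper (c : Sym2 (Fin n) → A) : Matrix (Fin n) (Fin n) A :=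
  Matrix.of fun i j => if i ≤ j then c (Sym2.mk i j) else 0

theorem cf_upper (c : Sym2 (Fin n) → A) : cf (upper c) = c := by
  funext z
  induction z using Sym2.inductionOn with
  | hf i j =>
    simp only [cf_mk, upper, Matrix.of_apply]
    rcases lt_trichotomy i j with h | h | h
    · rw [if_neg h.ne, if_pos h.le, if_neg (not_le.2 h), add_zero]
    · subst h; simp
    · rw [if_neg h.ne', if_neg (not_le.2 h), if_pos h.le, zero_add, Sym2.eq_swap]

theorem symm_eq_of_cf {M N : Matrix (Fin n) (Fin n) A} (h : cf M = cf N) : M + Mᵀ = N + Nᵀ := by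
  ext i j
  have := congrFun h (Sym2.mk i j)
  simp only [cf_mk] at this
  simp only [Matrix.add_apply, Matrix.transpose_apply]
  rcases eq_or_ne i j with rfl | hij
  · rw [if_pos rfl, if_pos rfl] at this; rw [this]
  · rwa [if_neg hij, if_neg hij] at this

theorem cf_conj_eq {M N : Matrix (Fin n) (Fin n) A} (h : cf M = cf N) (G : Matrix (Fin n) (Fin n) A) :
    cf (Gᵀ * M * G) = cf (Gᵀ * N * G) := by
  have h' : cf (M - N) = 0 := by rw [cf_sub, h, sub_self]
  rw [← sub_eq_zero, ← cf_sub, ← Matrix.sub_mul, ← Matrix.mul_sub]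
  generalize M - N = D at h'
  have hskew : ∀ a b, D a b + D b a = 0 := fun a b => by
    have := congrFun h' (Sym2.mk a b)
    rw [cf_mk, Pi.zero_apply] at this
    split_ifs at this with hab
    · subst hab; rw [this, add_zero]
    · exact this
  have hdiag : ∀ a, D a a = 0 := fun a => by
    have := congrFun h' (Sym2.mk a a)
    rwa [cf_mk, if_pos rfl, Pi.zero_apply] at this
  have key : ∀ v w : Fin n → A, (∑ a, ∑ b, v a * D a b * w b) + (∑ a, ∑ b, w a * D a b * v b) = 0 := by
    intro v w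
    rw [Finset.sum_comm (f := fun a b => w a * D a b * v b), ← Finset.sum_add_distrib]
    refine Finset.sum_eq_zero fun a _ => ?_
    rw [← Finset.sum_add_distrib]
    refine Finset.sum_eq_zero fun b _ => ?_
    linear_combination (v a * w b) * hskew a b
  have kdiag : ∀ v : Fin n → A, ∑ a, ∑ b, v a * D a b * v b = 0 := by
    intro v
    rw [← Finset.sum_product']
    refine Finset.sum_involution (fun x _ => (x.2, x.1)) (fun x _ => ?_) (fun x _ hne hx => hne ?_)
      (fun x _ => Finset.mem_product.2 ⟨Finset.mem_univ _, Finset.mem_univ _⟩) (fun _ _ => rfl)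
    · linear_combination (v x.1 * v x.2) * hskew x.1 x.2
    · have : x.2 = x.1 := congrArg Prod.fst hx
      rw [this, hdiag, mul_zero, zero_mul]
  funext z
  induction z using Sym2.inductionOn with
  | hf i j =>
    rw [cf_mk, Pi.zero_apply]
    simp only [Matrix.mul_apply, Matrix.transpose_apply, Finset.sum_mul]
    split_ifs with hij
    · subst hij
      rw [Finset.sum_comm]
      exact kdiag fun a => G a i
    · rw [Finset.sum_comm, Finset.sum_comm (f := fun b a => G a j * D a b * G b i)]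
      exact key (fun a => G a i) (fun a => G a j)

theorem hd_eq_of_cf {M N : Matrix (Fin n) (Fin n) A} (h : cf M = cf N) : hd M = hd N := by
  simp only [hd, h]

theorem hd_smul (hn : Odd n) (c : A) (β : Matrix (Fin n) (Fin n) A) : hd (c • β) = c ^ n * hd β := by
  let U := MvPolynomial (Option (Fin n × Fin n)) ℤ
  let bU : Matrix (Fin n) (Fin n) U := Matrix.of fun i j => MvPolynomial.X (some (i, j))
  let cU : U := MvPolynomial.X none
  have key : hd (cU • bU) = cU ^ n * hd bU := by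
    apply mul_left_cancel₀ (show (2 : U) ≠ 0 by exact two_ne_zero)
    rw [two_mul_hd hn, mul_left_comm, two_mul_hd hn, Matrix.transpose_smul, ← smul_add, Matrix.det_smul, Fintype.card_fin]
  let f : U →+* A := MvPolynomial.eval₂Hom (Int.castRingHom A) (fun o => o.elim c fun x => β x.1 x.2)
  have hb : bU.map f = β := by ext i j; exact MvPolynomial.eval₂Hom_X' _ _ _
  have hc : f cU = c := MvPolynomial.eval₂Hom_X' _ _ _
  have h := congrArg f key
  rw [← hd_map, map_mul, map_pow, ← hd_map, hc, hb, Matrix.map_smul' f cU bU (map_mul f), hc, hb] at h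
  exact h

theorem hd_eq_zero_of_zero_row (hn : Odd n) (β : Matrix (Fin n) (Fin n) A) (i : Fin n)
    (hr : ∀ k, β i k = 0) (hc : ∀ k, β k i = 0) : hd β = 0 := by
  let U := MvPolynomial (Fin n × Fin n) ℤ
  let bU : Matrix (Fin n) (Fin n) U := Matrix.of fun a b => if a = i ∨ b = i then 0 else MvPolynomial.X (a, b)
  have key : hd bU = 0 := by
    apply mul_left_cancel₀ (show (2 : U) ≠ 0 by exact two_ne_zero)
    rw [two_mul_hd hn, mul_zero]
    exact Matrix.det_eq_zero_of_row_eq_zero i fun k => by simp [bU]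
  let f : U →+* A := MvPolynomial.eval₂Hom (Int.castRingHom A) (fun x => β x.1 x.2)
  have hb : bU.map f = β := by
    ext a b
    rw [Matrix.map_apply]
    change f (if a = i ∨ b = i then 0 else MvPolynomial.X (a, b)) = _
    split_ifs with h
    · rcases h with rfl | rfl
      · rw [map_zero, hr]
      · rw [map_zero, hc]
    · exact MvPolynomial.eval₂Hom_X' _ _ _
  rw [← hb, hd_map, key, map_zero]

theorem hd_eq_zero_of_two_rows (hn : Odd n) (h2 : (2 : A) = 0) (β : Matrix (Fin n) (Fin n) A) (i j : Fin n)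
    (hij : i ≠ j) (hi : ∀ k, k ≠ i → β i k = 0 ∧ β k i = 0) (hj : ∀ k, k ≠ j → β j k = 0 ∧ β k j = 0) :
    hd β = 0 := by
  let U := MvPolynomial (Fin n × Fin n) ℤ
  let bU : Matrix (Fin n) (Fin n) U := Matrix.of fun a b =>
    if a ≠ b ∧ (a = i ∨ b = i ∨ a = j ∨ b = j) then 0 else MvPolynomial.X (a, b)
  set P := bU + bUᵀ
  have hrow : ∀ l, l = i ∨ l = j → P l = (2 * bU l l) • Pi.single l (1 : U) := by
    intro l hl
    funext k
    simp only [P, Pi.smul_apply, smul_eq_mul, Matrix.add_apply, Matrix.transpose_apply]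
    rcases eq_or_ne k l with rfl | hk
    · rw [Pi.single_eq_same]; ring
    · rw [Pi.single_eq_of_ne hk]
      rcases hl with rfl | rfl <;> simp [bU, hk, Ne.symm hk]
  have hdet : ∃ D, P.det = 4 * D := by
    refine ⟨bU i i * (bU j j * ((P.updateRow i (Pi.single i 1)).updateRow j (Pi.single j 1)).det), ?_⟩
    have e1 : P.det = (2 * bU i i) * (P.updateRow i (Pi.single i 1)).det := by
      rw [← Matrix.det_updateRow_smul, ← hrow i (Or.inl rfl), Matrix.updateRow_eq_self]
    have e2 : (P.updateRow i (Pi.single i 1)).det =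
        (2 * bU j j) * ((P.updateRow i (Pi.single i 1)).updateRow j (Pi.single j 1)).det := by
      rw [← Matrix.det_updateRow_smul, ← hrow j (Or.inr rfl)]
      congr 1
      ext a b
      rcases eq_or_ne a j with rfl | ha
      · rw [Matrix.updateRow_self, Matrix.updateRow_ne hij.symm]
      · rw [Matrix.updateRow_ne ha]
    rw [e1, e2]
    ring
  obtain ⟨D, hD⟩ := hdet
  have key : hd bU = 2 * D := by
    apply mul_left_cancel₀ (show (2 : U) ≠ 0 by exact two_ne_zero)
    rw [two_mul_hd hn, hD]; ring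
  let f : U →+* A := MvPolynomial.eval₂Hom (Int.castRingHom A) (fun x => β x.1 x.2)
  have hb : bU.map f = β := by
    ext a b
    rw [Matrix.map_apply]
    change f (if a ≠ b ∧ (a = i ∨ b = i ∨ a = j ∨ b = j) then 0 else MvPolynomial.X (a, b)) = _
    split_ifs with h
    · rw [map_zero]
      obtain ⟨hab, rfl | rfl | rfl | rfl⟩ := h
      · exact (hi b (Ne.symm hab)).1.symm
      · exact (hi a hab).2.symm
      · exact (hj b (Ne.symm hab)).1.symm
      · exact (hj a hab).2.symm
    · exact MvPolynomial.eval₂Hom_X' _ _ _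
  rw [← hb, hd_map, key, map_mul, map_ofNat, h2, zero_mul]

end cfAlg

/-! ### Fields of characteristic two -/

section Char2

variable {K : Type u} [Field K] {γ : Matrix (Fin n) (Fin n) K}

theorem polarMat_symm (γ : Matrix (Fin n) (Fin n) A) : (γ + γᵀ)ᵀ = γ + γᵀ := by
  rw [Matrix.transpose_add, Matrix.transpose_transpose, add_comm]

theorem ker_value_ne (hn : Odd n) (hγ : hd γ ≠ 0) {r : Fin n → K} (hr : (γ + γᵀ) *ᵥ r = 0) {i : Fin n} (hi : r i = 1) :
    r ⬝ᵥ γ *ᵥ r ≠ 0 := by
  intro h0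
  set N : Matrix (Fin n) (Fin n) K := Matrix.of fun a b => if b = i then r a - (Pi.single i (1 : K) : Fin n → K) a else 0
  set G := 1 + N
  have hN : N * N = 0 := by
    ext a b
    rw [Matrix.mul_apply, Matrix.zero_apply]
    refine Finset.sum_eq_zero fun c _ => ?_
    simp only [N, Matrix.of_apply]
    split_ifs with h1 h2 <;> simp_all
  have hG : IsUnit G.det := by
    rw [← Matrix.isUnit_iff_isUnit_det]
    exact ⟨⟨G, 1 - N, by simp [G, mul_sub, add_mul, hN], by simp [G, sub_mul, mul_add, hN]⟩, rfl⟩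
  have hGe : G *ᵥ Pi.single i 1 = r := by
    funext a
    simp only [Matrix.mulVec_single, MulOpposite.op_one, one_smul, Matrix.col_apply]
    simp [G, N, Matrix.one_apply, Pi.single_apply]
  set γ' := Gᵀ * γ * G
  have hcol : ∀ k, γ' k i + γ' i k = 0 := by
    intro k
    have h1 : γ' + γ'ᵀ = Gᵀ * (γ + γᵀ) * G := by
      simp [γ', Matrix.transpose_mul, Matrix.mul_add, Matrix.add_mul, Matrix.mul_assoc]
    have h2 : (γ' + γ'ᵀ) *ᵥ Pi.single i 1 = 0 := by
      rw [h1, ← Matrix.mulVec_mulVec, hGe, ← Matrix.mulVec_mulVec, hr, Matrix.mulVec_zero]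
    simpa [Matrix.mulVec_single] using congrFun h2 k
  have hii : γ' i i = 0 := by
    rw [← h0, show γ' i i = Pi.single i 1 ⬝ᵥ γ' *ᵥ Pi.single i 1 by simp [Matrix.mulVec_single],
      show γ' = Gᵀ * γ * G from rfl, ← Matrix.mulVec_mulVec, hGe, ← Matrix.mulVec_mulVec, Matrix.dotProduct_mulVec,
      Matrix.vecMul_transpose, hGe]
  apply hγ
  have h3 := hd_conj hn γ G
  rw [hd_eq_of_cf (cf_upper (cf γ')).symm, hd_eq_zero_of_zero_row hn (upper (cf γ')) i ?_ ?_] at h3
  · exact (mul_eq_zero.1 h3.symm).resolve_left (pow_ne_zero 2 hG.ne_zero)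
  all_goals
    intro k
    simp only [upper, Matrix.of_apply, cf_mk]
    split_ifs with h1 h2 <;> first | rfl | (first | exact hcol k | (subst h2; exact hii) | (rw [add_comm]; exact hcol k))

theorem ker_unique (hn : Odd n) (h2 : (2 : K) = 0) (hγ : hd γ ≠ 0) {r s : Fin n → K}
    (hr : (γ + γᵀ) *ᵥ r = 0) (hs : (γ + γᵀ) *ᵥ s = 0) {i : Fin n} (hi : r i = 1) : s = s i • r := by
  by_contra hne
  obtain ⟨j, hj⟩ := Function.ne_iff.1 hne
  set s₁ := (s j - s i * r j)⁻¹ • (s - s i • r)
  have hden : s j - s i * r j ≠ 0 := sub_ne_zero.2 hj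
  have hs1j : s₁ j = 1 := by simp [s₁, inv_mul_cancel₀ hden]
  have hs1i : s₁ i = 0 := by simp [s₁, hi]
  have hij : i ≠ j := fun e => by rw [e, hs1j] at hs1i; exact one_ne_zero hs1i
  set r₁ := r - r j • s₁
  have hr1i : r₁ i = 1 := by simp [r₁, hi, hs1i]
  have hr1j : r₁ j = 0 := by simp [r₁, hs1j]
  have hs1 : (γ + γᵀ) *ᵥ s₁ = 0 := by simp [s₁, Matrix.mulVec_smul, Matrix.mulVec_sub, hr, hs]
  have hr1 : (γ + γᵀ) *ᵥ r₁ = 0 := by simp [r₁, Matrix.mulVec_smul, Matrix.mulVec_sub, hr, hs1]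
  set N : Matrix (Fin n) (Fin n) K := Matrix.of fun a b =>
    if b = i then r₁ a - (Pi.single i (1 : K) : Fin n → K) a
    else if b = j then s₁ a - (Pi.single j (1 : K) : Fin n → K) a else 0
  set G := 1 + N
  have hN : N * N = 0 := by
    ext a b
    rw [Matrix.mul_apply, Matrix.zero_apply]
    refine Finset.sum_eq_zero fun c _ => ?_
    simp only [N, Matrix.of_apply]
    split_ifs <;> simp_all [Pi.single_apply]
  have hG : IsUnit G.det := by
    rw [← Matrix.isUnit_iff_isUnit_det]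
    exact ⟨⟨G, 1 - N, by simp [G, mul_sub, add_mul, hN], by simp [G, sub_mul, mul_add, hN]⟩, rfl⟩
  have hGe : G *ᵥ Pi.single i 1 = r₁ := by
    funext a
    simp [G, N, Matrix.mulVec_single, Matrix.one_apply, Pi.single_apply]
  have hGf : G *ᵥ Pi.single j 1 = s₁ := by
    funext a
    simp [G, N, Matrix.mulVec_single, Matrix.one_apply, Pi.single_apply, Ne.symm hij]
  set γ' := Gᵀ * γ * G
  have h1 : γ' + γ'ᵀ = Gᵀ * (γ + γᵀ) * G := by
    simp [γ', Matrix.transpose_mul, Matrix.mul_add, Matrix.add_mul, Matrix.mul_assoc]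
  have hcol : ∀ l, l = i ∨ l = j → ∀ k, γ' k l + γ' l k = 0 := by
    intro l hl k
    have h2 : (γ' + γ'ᵀ) *ᵥ Pi.single l 1 = 0 := by
      rw [h1, ← Matrix.mulVec_mulVec]
      rcases hl with rfl | rfl
      · rw [hGe, ← Matrix.mulVec_mulVec, hr1, Matrix.mulVec_zero]
      · rw [hGf, ← Matrix.mulVec_mulVec, hs1, Matrix.mulVec_zero]
    simpa [Matrix.mulVec_single] using congrFun h2 k
  apply hγ
  have h3 := hd_conj hn γ G
  have hz : ∀ l, l = i ∨ l = j → ∀ k, k ≠ l → upper (cf γ') l k = 0 ∧ upper (cf γ') k l = 0 := by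
    intro l hl k hk
    simp only [upper, Matrix.of_apply, cf_mk, if_neg hk, if_neg (Ne.symm hk)]
    rw [hcol l hl k, add_comm (γ' l k), hcol l hl k]
    simp
  rw [hd_eq_of_cf (cf_upper (cf γ')).symm,
    hd_eq_zero_of_two_rows hn h2 (upper (cf γ')) i j hij (hz i (Or.inl rfl)) (hz j (Or.inr rfl))] at h3
  exact (mul_eq_zero.1 h3.symm).resolve_left (pow_ne_zero 2 hG.ne_zero)

theorem surj_char2 (hn : Odd n) (h2 : (2 : K) = 0) (hγ : hd γ ≠ 0) (j : ℕ) (i₀ : Fin n) (t : Sym2 (Fin n) → K) (τ : K) :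
    ∃ (H : Matrix (Fin n) (Fin n) K) (c : K),
      cf ((γ + γᵀ) * H) + c • (cf γ - (j : K) • cf ((γ + γᵀ) * Matrix.single i₀ i₀ 1)) = t ∧ H.trace = τ := by
  set P := γ + γᵀ
  have hdet : P.det = 0 := by rw [← two_mul_hd hn, h2, zero_mul]
  obtain ⟨v, hv0, hv⟩ := Matrix.exists_mulVec_eq_zero_iff.2 hdet
  obtain ⟨i, hi⟩ := Function.ne_iff.1 hv0
  set r := (v i)⁻¹ • v
  have hri : r i = 1 := by simp [r, inv_mul_cancel₀ hi]
  have hr : P *ᵥ r = 0 := by simp [r, Matrix.mulVec_smul, hv]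
  have hq := ker_value_ne hn hγ hr hri
  have hrP : r ᵥ* P = 0 := by
    rw [← Matrix.mulVec_transpose, polarMat_symm]; exact hr
  set q₀ : Matrix (Fin n) (Fin n) K := γ - (j : K) • (P * Matrix.single i₀ i₀ 1)
  have hq₀ : cf q₀ = cf γ - (j : K) • cf (P * Matrix.single i₀ i₀ 1) := by rw [cf_sub, cf_smul]
  have hq₀r : r ⬝ᵥ q₀ *ᵥ r = r ⬝ᵥ γ *ᵥ r := by
    rw [Matrix.sub_mulVec, dotProduct_sub, Matrix.smul_mulVec, ← Matrix.mulVec_mulVec, dotProduct_smul,
      Matrix.dotProduct_mulVec r P, hrP, zero_dotProduct, smul_zero, sub_zero]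
  set c := (r ⬝ᵥ upper t *ᵥ r) / (r ⬝ᵥ q₀ *ᵥ r)
  set M := upper t - c • q₀
  have hMr : r ⬝ᵥ M *ᵥ r = 0 := by
    rw [Matrix.sub_mulVec, dotProduct_sub, Matrix.smul_mulVec, dotProduct_smul, smul_eq_mul,
      div_mul_cancel₀ _ (hq₀r ▸ hq), sub_self]
  set w := r ᵥ* M
  set A₀ : Matrix (Fin n) (Fin n) K := Matrix.of fun a b => (Pi.single i (1 : K) : Fin n → K) a * w b + w a * (Pi.single i (1 : K) : Fin n → K) b
  have hA0 : cf A₀ = 0 := by
    funext z
    induction z using Sym2.inductionOn with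
    | hf a b =>
      simp only [cf_mk, A₀, Matrix.of_apply, Pi.zero_apply]
      split_ifs with hab
      · subst hab; linear_combination ((Pi.single i (1 : K) : Fin n → K) a * w a) * h2
      · linear_combination ((Pi.single i (1 : K) : Fin n → K) a * w b + w a * (Pi.single i (1 : K) : Fin n → K) b) * h2
  have hwr : w ⬝ᵥ r = 0 := by rw [← Matrix.dotProduct_mulVec]; exact hMr
  have horth : ∀ b, r ⬝ᵥ (fun a => (M + A₀) a b) = 0 := by
    intro b
    have h4 : ∑ a, r a * A₀ a b = w b := by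
      simp only [A₀, Matrix.of_apply, mul_add, Finset.sum_add_distrib, ← mul_assoc, ← Finset.sum_mul]
      rw [show ∑ a, r a * w a = 0 from by rw [← hwr]; exact Finset.sum_congr rfl fun a _ => mul_comm _ _, zero_mul, add_zero]
      simp [hri, Pi.single_apply]
    simp only [dotProduct, Matrix.add_apply, mul_add, Finset.sum_add_distrib, h4]
    change w b + w b = 0
    linear_combination (w b) * h2
  have hrange : ∀ y : Fin n → K, r ⬝ᵥ y = 0 → ∃ x, P *ᵥ x = y := by
    intro y hy
    let ψ : (Fin n → K) →ₗ[K] K :=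
      { toFun := fun z => r ⬝ᵥ z, map_add' := fun a b => dotProduct_add _ _ _, map_smul' := fun a b => dotProduct_smul _ _ _ }
    have hle : LinearMap.range P.mulVecLin ≤ LinearMap.ker ψ := by
      rintro _ ⟨x, rfl⟩
      change r ⬝ᵥ P *ᵥ x = 0
      rw [Matrix.dotProduct_mulVec, hrP, zero_dotProduct]
    have hker : Module.finrank K (LinearMap.ker P.mulVecLin) ≤ 1 := by
      refine finrank_le_one (⟨r, hr⟩ : LinearMap.ker P.mulVecLin) fun x => ?_
      exact ⟨x.1 i, Subtype.ext (ker_unique hn h2 hγ hr x.2 hri).symm⟩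
    have hψ : LinearMap.ker ψ ≠ ⊤ := by
      intro htop
      have : r ⬝ᵥ Pi.single i 1 = 0 := LinearMap.mem_ker.1 (htop ▸ Submodule.mem_top : Pi.single i (1 : K) ∈ LinearMap.ker ψ)
      simp [hri] at this
    have h5 := LinearMap.finrank_range_add_finrank_ker P.mulVecLin
    rw [Module.finrank_fin_fun] at h5
    have h6 := Submodule.finrank_lt hψ
    rw [Module.finrank_fin_fun] at h6
    have heq := Submodule.eq_of_le_of_finrank_le hle (by omega)
    exact (heq ▸ hy : y ∈ LinearMap.range P.mulVecLin)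
  choose X hX using fun b => hrange (fun a => (M + A₀) a b) (horth b)
  set H : Matrix (Fin n) (Fin n) K := Matrix.of fun a b => X b a
  have hPH : P * H = M + A₀ := by
    ext a b
    exact congrFun (hX b) a
  refine ⟨H + (τ - H.trace) • 1, c, ?_, ?_⟩
  · rw [Matrix.mul_add, cf_add, hPH, Matrix.mul_smul, Matrix.mul_one, cf_smul, cf_add, hA0, add_zero, ← hq₀,
      show cf P = 0 by
        rw [cf_add, cf_transpose]
        funext z
        simp only [Pi.add_apply, Pi.zero_apply]
        linear_combination (cf γ z) * h2,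
      smul_zero, add_zero, cf_sub, cf_smul, cf_upper, sub_add_cancel]
  · rw [Matrix.trace_add, Matrix.trace_smul, Matrix.trace_one, Fintype.card_fin, smul_eq_mul,
      show (n : K) = 1 by obtain ⟨m, rfl⟩ := hn; push_cast; rw [h2]; ring, mul_one, add_sub_cancel]

end Char2

/-! ### Surjectivity of the obstruction map -/

theorem surj_two_unit (hn : Odd n) (h2 : IsUnit (2 : A)) {γ : Matrix (Fin n) (Fin n) A} (hγ : IsUnit (hd γ))
    {j : ℕ} (hj : n = 2 * j + 1) (i₀ : Fin n) (t : Sym2 (Fin n) → A) (τ : A) :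
    ∃ (H : Matrix (Fin n) (Fin n) A) (c : A),
      cf ((γ + γᵀ) * H) + c • (cf γ - (j : A) • cf ((γ + γᵀ) * Matrix.single i₀ i₀ 1)) = t ∧ H.trace = τ := by
  set P := γ + γᵀ
  have hP : IsUnit P.det := by rw [← two_mul_hd hn]; exact h2.mul hγ
  obtain ⟨d, hd2⟩ := h2.exists_left_inv
  set H₁ := P⁻¹ * upper t
  set H₀ : Matrix (Fin n) (Fin n) A := d • 1 - (j : A) • Matrix.single i₀ i₀ 1
  have hH₀ : cf (P * H₀) = cf γ - (j : A) • cf (P * Matrix.single i₀ i₀ 1) := by
    rw [Matrix.mul_sub, cf_sub, Matrix.mul_smul, Matrix.mul_one, Matrix.mul_smul, cf_smul, cf_smul,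
      show cf P = (2 : A) • cf γ by rw [cf_add, cf_transpose, two_smul], smul_smul, hd2, one_smul]
  have htr : H₀.trace = d := by
    rw [Matrix.trace_sub, Matrix.trace_smul, Matrix.trace_smul, Matrix.trace_one, Matrix.trace_single_eq_same,
      Fintype.card_fin, hj, smul_eq_mul, smul_eq_mul]
    push_cast
    linear_combination (j : A) * hd2
  refine ⟨H₁ - (2 * (H₁.trace - τ)) • H₀, 2 * (H₁.trace - τ), ?_, ?_⟩
  · rw [Matrix.mul_sub, cf_sub, Matrix.mul_smul, cf_smul, Matrix.mul_nonsing_inv_cancel_left _ _ hP, cf_upper, hH₀,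
      sub_add_cancel]
  · rw [Matrix.trace_sub, Matrix.trace_smul, htr, smul_eq_mul]
    linear_combination -(H₁.trace - τ) * hd2

theorem surj_obstruction (hn : Odd n) {γ : Matrix (Fin n) (Fin n) A} (hγ : IsUnit (hd γ))
    {j : ℕ} (hj : n = 2 * j + 1) (i₀ : Fin n) (t : Sym2 (Fin n) → A) (τ : A) :
    ∃ (H : Matrix (Fin n) (Fin n) A) (c : A),
      cf ((γ + γᵀ) * H) + c • (cf γ - (j : A) • cf ((γ + γᵀ) * Matrix.single i₀ i₀ 1)) = t ∧ H.trace = τ := by
  let q0 := cf γ - (j : A) • cf ((γ + γᵀ) * Matrix.single i₀ i₀ 1)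
  let Ψ : (Matrix (Fin n) (Fin n) A × A) →ₗ[A] ((Sym2 (Fin n) → A) × A) :=
    { toFun := fun x => (cf ((γ + γᵀ) * x.1) + x.2 • q0, x.1.trace)
      map_add' := fun x y => Prod.ext
        (show cf ((γ + γᵀ) * (x.1 + y.1)) + (x.2 + y.2) • q0 = _ by
          rw [Matrix.mul_add, cf_add, add_smul]
          exact add_add_add_comm _ _ _ _)
        (Matrix.trace_add x.1 y.1)
      map_smul' := fun a x => Prod.ext
        (show cf ((γ + γᵀ) * (a • x.1)) + (a • x.2) • q0 = a • (cf ((γ + γᵀ) * x.1) + x.2 • q0) by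
          rw [Matrix.mul_smul, cf_smul, smul_add, smul_assoc])
        (Matrix.trace_smul a x.1) }
  have key : ∀ m : Ideal A, m.IsMaximal →
      (⊤ : Submodule A (((Sym2 (Fin n) → A) × A) ⧸ LinearMap.range Ψ)) ≤ m • ⊤ := by
    intro m hm
    rintro z -
    obtain ⟨⟨t, τ⟩, rfl⟩ := Submodule.mkQ_surjective (LinearMap.range Ψ) z
    let := Ideal.Quotient.field m
    set q := Ideal.Quotient.mk m
    have hγk : hd (γ.map q) ≠ 0 := by rw [hd_map]; exact (hγ.map q).ne_zero
    obtain ⟨Hk, ck, hk1, hk2⟩ : ∃ (H : Matrix (Fin n) (Fin n) (A ⧸ m)) (c : A ⧸ m),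
        cf ((γ.map q + (γ.map q)ᵀ) * H) + c • (cf (γ.map q) - (j : A ⧸ m) • cf ((γ.map q + (γ.map q)ᵀ) * Matrix.single i₀ i₀ 1)) = (fun z => q (t z)) ∧
          H.trace = q τ := by
      by_cases h2 : (2 : A ⧸ m) = 0
      · exact surj_char2 hn h2 hγk j i₀ _ _
      · exact surj_two_unit hn (IsUnit.mk0 _ h2) (IsUnit.mk0 _ hγk) hj i₀ _ _
    choose lift hlift using Ideal.Quotient.mk_surjective (I := m)
    set H := Hk.map lift
    set c := lift ck
    have hH : H.map q = Hk := by ext a b; exact hlift _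
    have e1 : ∀ z, (Ψ (H, c)).1 z - t z ∈ m := by
      intro z
      rw [← Ideal.Quotient.eq_zero_iff_mem, map_sub, sub_eq_zero]
      have hmap : ∀ X : Matrix (Fin n) (Fin n) A, q (cf X z) = cf (X.map q) z := fun X =>
        (congrFun (cf_map q X) z).symm
      change q (cf ((γ + γᵀ) * H) z + c * (cf γ z - (j : A) * cf ((γ + γᵀ) * Matrix.single i₀ i₀ 1) z)) = q (t z)
      rw [map_add, map_mul, map_sub, map_mul, map_natCast, hmap, hmap, hmap, Matrix.map_mul, Matrix.map_mul,
        Matrix.map_add _ (map_add q), Matrix.transpose_map, hH, hlift, Matrix.map_single _ _ _ q, map_one]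
      exact congrFun hk1 z
    have e2 : (Ψ (H, c)).2 - τ ∈ m := by
      rw [← Ideal.Quotient.eq_zero_iff_mem, map_sub, sub_eq_zero, ← hk2, ← hH]
      exact AddMonoidHom.map_trace q.toAddMonoidHom H
    have hmem : Ψ (H, c) - (t, τ) ∈ m • (⊤ : Submodule A ((Sym2 (Fin n) → A) × A)) := by
      have : Ψ (H, c) - (t, τ) = ((Ψ (H, c)).1 - t, (0 : A)) + ((Ψ (H, c)).2 - τ) • (0, 1) := by
        simp [Prod.ext_iff]
      rw [this]
      refine add_mem ?_ (Submodule.smul_mem_smul e2 trivial)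
      rw [show (((Ψ (H, c)).1 - t, (0 : A))) = ∑ z, ((Ψ (H, c)).1 z - t z) • ((Pi.single z 1, 0) : (Sym2 (Fin n) → A) × A) by
        refine Prod.ext (funext fun z => ?_) ?_
        · simp [Prod.fst_sum, Pi.single_apply]
        · simp [Prod.snd_sum]]
      exact Submodule.sum_mem _ fun z _ => Submodule.smul_mem_smul (e1 z) trivial
    have := Submodule.mem_map_of_mem (f := (LinearMap.range Ψ).mkQ) hmem
    rw [Submodule.map_smul'', Submodule.map_top, Submodule.range_mkQ, map_sub,
      Submodule.mkQ_apply, (Submodule.Quotient.mk_eq_zero (LinearMap.range Ψ)).2 (LinearMap.mem_range_self Ψ (H, c)), zero_sub, neg_mem_iff] at this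
    exact this
  have hann : Module.annihilator A (((Sym2 (Fin n) → A) × A) ⧸ LinearMap.range Ψ) = ⊤ := by
    by_contra hne
    obtain ⟨m, hm, hle⟩ := Ideal.exists_le_maximal _ hne
    obtain ⟨r, hr1, hr2⟩ := Submodule.exists_sub_one_mem_and_smul_eq_zero_of_fg_of_le_smul m ⊤
      Module.Finite.fg_top (key m hm)
    have : r ∈ m := hle (Module.mem_annihilator.2 fun z => hr2 z trivial)
    exact hm.ne_top ((Ideal.eq_top_iff_one _).2 (by simpa using sub_mem this hr1))
  have h1 : ((LinearMap.range Ψ).mkQ (t, τ)) = 0 := by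
    have := Module.mem_annihilator.1 (hann ▸ Submodule.mem_top : (1 : A) ∈ _) ((LinearMap.range Ψ).mkQ (t, τ))
    rwa [one_smul] at this
  rw [Submodule.mkQ_apply, Submodule.Quotient.mk_eq_zero] at h1
  obtain ⟨⟨H, c⟩, hx⟩ := h1
  exact ⟨H, c, congrArg Prod.fst hx, congrArg Prod.snd hx⟩

/-! ### Lifting -/

section Lift

variable {I : Ideal A}

theorem isUnit_of_mk (hI : I ^ 2 = ⊥) {x : A} (hx : IsUnit (Ideal.Quotient.mk I x)) : IsUnit x := by
  obtain ⟨y, hy⟩ := Ideal.Quotient.mk_surjective (I := I) (↑(hx.unit⁻¹) : A ⧸ I)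
  have h1 : x * y - 1 ∈ I := by
    rw [← Ideal.Quotient.eq_zero_iff_mem, map_sub, map_mul, map_one, hy, IsUnit.mul_val_inv, sub_self]
  have h2 : (x * y - 1) * (x * y - 1) = 0 := by
    rw [← Ideal.mem_bot, ← hI, pow_two]; exact Ideal.mul_mem_mul h1 h1
  exact IsUnit.of_mul_eq_one (y * (2 - x * y)) (by linear_combination -h2)

theorem mul_eq_zero_of_mem (hI : I ^ 2 = ⊥) {x y : A} (hx : x ∈ I) (hy : y ∈ I) : x * y = 0 := by
  rw [← Ideal.mem_bot, ← hI, pow_two]; exact Ideal.mul_mem_mul hx hy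

theorem conj_one_add (hI : I ^ 2 = ⊥) {H : Matrix (Fin n) (Fin n) A} (hH : ∀ a b, H a b ∈ I)
    (γ : Matrix (Fin n) (Fin n) A) : cf ((1 + H)ᵀ * γ * (1 + H)) = cf γ + cf ((γ + γᵀ) * H) := by
  have h0 : Hᵀ * γ * H = 0 := by
    ext a b
    simp only [Matrix.mul_apply, Matrix.transpose_apply, Finset.sum_mul, Matrix.zero_apply]
    exact Finset.sum_eq_zero fun c _ => Finset.sum_eq_zero fun d _ => by
      rw [mul_right_comm, mul_eq_zero_of_mem hI (hH _ _) (hH _ _), zero_mul]
  rw [Matrix.transpose_add, Matrix.transpose_one]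
  simp only [Matrix.add_mul, Matrix.mul_add, Matrix.one_mul, Matrix.mul_one, h0, cf_add, cf_zero, add_zero]
  rw [show cf (Hᵀ * γ) = cf (γᵀ * H) by rw [← cf_transpose (γᵀ * H), Matrix.transpose_mul, Matrix.transpose_transpose]]
  abel

theorem det_one_add_of_mem (hI : I ^ 2 = ⊥) {H : Matrix (Fin n) (Fin n) A} (hH : ∀ a b, H a b ∈ I) :
    (1 + H).det = 1 + H.trace := by
  have hprod : ∀ s : Finset (Fin n), ∏ a ∈ s, (1 + H a a) = 1 + ∑ a ∈ s, H a a := by
    intro s
    induction s using Finset.induction_on with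
    | empty => simp
    | insert a s ha ih =>
      rw [Finset.prod_insert ha, Finset.sum_insert ha, ih]
      linear_combination mul_eq_zero_of_mem hI (hH a a) (I.sum_mem (t := s) fun b _ => hH b b)
  rw [Matrix.det_apply', Finset.sum_eq_single (1 : Equiv.Perm (Fin n))]
  · simp only [Equiv.Perm.sign_one, Units.val_one, Int.cast_one, one_mul, Equiv.Perm.one_apply, Matrix.add_apply,
      Matrix.one_apply_eq]
    rw [hprod]; rfl
  · intro σ _ hσ
    obtain ⟨a, ha⟩ : ∃ a, σ a ≠ a := by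
      by_contra h
      push Not at h
      exact hσ (Equiv.ext h)
    have hb : σ (σ a) ≠ σ a := fun e => ha (σ.injective e)
    rw [← Finset.mul_prod_erase _ _ (Finset.mem_univ a),
      ← Finset.mul_prod_erase _ _ (Finset.mem_erase.2 ⟨ha, Finset.mem_univ (σ a)⟩)]
    simp only [Matrix.add_apply, Matrix.one_apply_ne ha, Matrix.one_apply_ne hb, zero_add]
    rw [← mul_assoc (H _ _), mul_eq_zero_of_mem hI (hH _ _) (hH _ _), zero_mul, mul_zero]
  · simp

theorem map_mul_one_add {H : Matrix (Fin n) (Fin n) A} (hH : ∀ a b, H a b ∈ I) (G : Matrix (Fin n) (Fin n) A) :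
    (G * (1 + H)).map (Ideal.Quotient.mk I) = G.map (Ideal.Quotient.mk I) := by
  rw [Matrix.mul_add, Matrix.mul_one]
  ext a b
  rw [Matrix.map_apply, Matrix.map_apply, Matrix.add_apply, map_add, add_eq_left, Ideal.Quotient.eq_zero_iff_mem,
    Matrix.mul_apply]
  exact I.sum_mem fun c _ => I.mul_mem_left _ (hH c b)

variable {R : Type u} [CommRing R] [Algebra R A] {β : Matrix (Fin n) (Fin n) R}

theorem exists_pre_lift (hI : I ^ 2 = ⊥) {s : Bool} {Gb : Matrix (Fin n) (Fin n) (A ⧸ I)} (hGb : OK β s (A ⧸ I) Gb)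
    (G : Matrix (Fin n) (Fin n) A) (hG : G.map (Ideal.Quotient.mk I) = Gb) :
    IsUnit G.det ∧ ∀ z, cf (β.map (algebraMap R A)) z - cf (Gᵀ * β.map (algebraMap R A) * G) z ∈ I := by
  refine ⟨isUnit_of_mk hI ?_, fun z => ?_⟩
  · rw [RingHom.map_det, RingHom.mapMatrix_apply, hG]; exact hGb.1
  · rw [← Ideal.Quotient.eq_zero_iff_mem, map_sub, sub_eq_zero, ← congrFun (cf_map _ _) z, ← congrFun (cf_map _ _) z,
      Matrix.map_mul, Matrix.map_mul, Matrix.transpose_map, hG]
    have e : (β.map (algebraMap R A)).map (Ideal.Quotient.mk I) = β.map (algebraMap R (A ⧸ I)) :=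
      map_algebraMap β (Ideal.Quotient.mkₐ R I)
    rw [e, hGb.2.1]

theorem upper_mem {δ : Sym2 (Fin n) → A} (h : ∀ z, δ z ∈ I) (a b : Fin n) : upper δ a b ∈ I := by
  simp only [upper, Matrix.of_apply]
  split_ifs
  · exact h _
  · exact I.zero_mem

/-- Lifting when the polar matrix is invertible. -/
theorem lift_regular (hP : IsUnit (β + βᵀ).det) (s : Bool) (hs : s = true → IsUnit (2 : R)) (hI : I ^ 2 = ⊥)
    {Gb : Matrix (Fin n) (Fin n) (A ⧸ I)} (hGb : OK β s (A ⧸ I) Gb) :
    ∃ G, OK β s A G ∧ G.map (Ideal.Quotient.mk I) = Gb := by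
  choose lift hlift using Ideal.Quotient.mk_surjective (I := I)
  set G := Gb.map lift
  have hG : G.map (Ideal.Quotient.mk I) = Gb := by ext a b; exact hlift _
  obtain ⟨hdet, hδ⟩ := exists_pre_lift hI hGb G hG
  set βA := β.map (algebraMap R A)
  set γ := Gᵀ * βA * G
  have hPA : IsUnit (βA + βAᵀ).det := by
    rw [show βA + βAᵀ = (β + βᵀ).map (algebraMap R A) by ext a b; simp [βA], ← RingHom.mapMatrix_apply, ← RingHom.map_det]
    exact hP.map _
  have hPγ : IsUnit (γ + γᵀ).det := by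
    rw [show γ + γᵀ = Gᵀ * (βA + βAᵀ) * G by simp [γ, Matrix.transpose_mul, Matrix.mul_add, Matrix.add_mul, Matrix.mul_assoc],
      Matrix.det_mul, Matrix.det_mul, Matrix.det_transpose]
    exact (hdet.mul hPA).mul hdet
  set H := (γ + γᵀ)⁻¹ * upper (cf βA - cf γ)
  have hH : ∀ a b, H a b ∈ I := fun a b => by
    change ((γ + γᵀ)⁻¹ * upper (cf βA - cf γ)) a b ∈ I
    rw [Matrix.mul_apply]
    exact I.sum_mem fun c _ => I.mul_mem_left _ (upper_mem (fun z => hδ z) c b)
  set G' := G * (1 + H)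
  have hG' : G'.map (Ideal.Quotient.mk I) = Gb := (map_mul_one_add hH G).trans hG
  have hcf : cf (G'ᵀ * βA * G') = cf βA := by
    rw [show G'ᵀ * βA * G' = (1 + H)ᵀ * γ * (1 + H) by simp [G', γ, Matrix.transpose_mul, Matrix.mul_assoc],
      conj_one_add hI hH, Matrix.mul_nonsing_inv_cancel_left _ _ hPγ, cf_upper, add_sub_cancel]
  have hdet' := (exists_pre_lift hI hGb G' hG').1
  refine ⟨G', ⟨hdet', hcf, fun hst => ?_⟩, hG'⟩
  have h1 : G'ᵀ * (βA + βAᵀ) * G' = βA + βAᵀ := by
    refine Eq.trans ?_ (symm_eq_of_cf hcf)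
    simp [Matrix.transpose_mul, Matrix.mul_add, Matrix.add_mul, Matrix.mul_assoc]
  have h2 := congrArg Matrix.det h1
  rw [Matrix.det_mul, Matrix.det_mul, Matrix.det_transpose] at h2
  have h3 : G'.det * G'.det = 1 := hPA.mul_right_cancel (by rw [one_mul]; linear_combination h2)
  have h4 : G'.det - 1 ∈ I := by
    rw [← Ideal.Quotient.eq_zero_iff_mem, map_sub, RingHom.map_det, RingHom.mapMatrix_apply, hG', hGb.2.2 hst, map_one, sub_self]
  have h5 : IsUnit (G'.det + 1) := by
    refine isUnit_of_mk hI ?_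
    rw [show G'.det + 1 = (G'.det - 1) + 2 by ring, map_add, Ideal.Quotient.eq_zero_iff_mem.2 h4, zero_add]
    have := ((hs hst).map (algebraMap R A)).map (Ideal.Quotient.mk I)
    rwa [map_ofNat] at this
  exact sub_eq_zero.1 (h5.mul_left_cancel (by rw [mul_zero]; linear_combination h3))

/-- Lifting isometries of determinant one in odd rank. -/
theorem lift_semiregular (hn : Odd n) (hβ : IsUnit (hd β)) (hI : I ^ 2 = ⊥)
    {Gb : Matrix (Fin n) (Fin n) (A ⧸ I)} (hGb : OK β true (A ⧸ I) Gb) :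
    ∃ G, OK β true A G ∧ G.map (Ideal.Quotient.mk I) = Gb := by
  obtain ⟨j, hj⟩ := hn
  have hodd : Odd n := ⟨j, hj⟩
  let i₀ : Fin n := ⟨0, by omega⟩
  choose lift hlift using Ideal.Quotient.mk_surjective (I := I)
  set G₁ := Gb.map lift
  have hG₁ : G₁.map (Ideal.Quotient.mk I) = Gb := by ext a b; exact hlift _
  have hu := (exists_pre_lift hI hGb G₁ hG₁).1
  set D : Matrix (Fin n) (Fin n) A := Matrix.diagonal (Function.update 1 i₀ (↑(hu.unit⁻¹) : A))
  set G := G₁ * D
  have hinv : Ideal.Quotient.mk I (↑(hu.unit⁻¹) : A) = 1 := by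
    have h1 := congrArg (Ideal.Quotient.mk I) hu.mul_val_inv
    rwa [map_mul, RingHom.map_det, RingHom.mapMatrix_apply, hG₁, hGb.2.2 rfl, one_mul, map_one] at h1
  have hG : G.map (Ideal.Quotient.mk I) = Gb := by
    rw [Matrix.map_mul, hG₁, Matrix.diagonal_map (map_zero _)]
    convert Matrix.mul_one Gb
    rw [← Matrix.diagonal_one]
    congr 1
    funext a
    rcases eq_or_ne a i₀ with rfl | ha
    · rw [Function.update_self, hinv]
    · rw [Function.update_of_ne ha, Pi.one_apply, map_one]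
  have hGdet : G.det = 1 := by
    rw [Matrix.det_mul, Matrix.det_diagonal, Finset.prod_update_of_mem (Finset.mem_univ _)]
    simp
  obtain ⟨hdet, hδ⟩ := exists_pre_lift hI hGb G hG
  set βA := β.map (algebraMap R A)
  set γ := Gᵀ * βA * G
  have hβA : IsUnit (hd βA) := by rw [hd_map]; exact hβ.map _
  have hγ : IsUnit (hd γ) := by rw [hd_conj hodd, hGdet, one_pow, one_mul]; exact hβA
  choose Hz cz hz1 hz2 using fun z => surj_obstruction hodd hγ hj i₀ (Pi.single z 1) 0
  set δ := cf βA - cf γ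
  set H₂ := ∑ z, δ z • Hz z
  set c := ∑ z, δ z * cz z
  set P := γ + γᵀ
  set E : Matrix (Fin n) (Fin n) A := Matrix.single i₀ i₀ 1
  have hc : c ∈ I := I.sum_mem fun z _ => I.mul_mem_right _ (hδ z)
  have hsum : cf (P * H₂) + c • (cf γ - (j : A) • cf (P * E)) = δ := by
    let L : Matrix (Fin n) (Fin n) A →+ (Sym2 (Fin n) → A) :=
      AddMonoidHom.mk' (fun X => cf (P * X)) fun X Y => by rw [Matrix.mul_add, cf_add]
    rw [show cf (P * H₂) = ∑ z, δ z • cf (P * Hz z) by
      change L H₂ = _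
      rw [map_sum]
      exact Finset.sum_congr rfl fun z _ => by change cf (P * (δ z • Hz z)) = _; rw [Matrix.mul_smul, cf_smul],
      Finset.sum_smul, ← Finset.sum_add_distrib]
    simp only [← smul_smul, ← smul_add, hz1]
    funext w
    simp [Finset.sum_apply, Pi.single_apply]
  set H := H₂ - (c * (j : A)) • E
  have hH : ∀ a b, H a b ∈ I := fun a b => by
    change ((∑ z, δ z • Hz z) - (c * (j : A)) • E) a b ∈ I
    rw [Matrix.sub_apply, Matrix.sum_apply, Matrix.smul_apply, smul_eq_mul]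
    exact sub_mem (I.sum_mem fun z _ => by rw [Matrix.smul_apply, smul_eq_mul]; exact I.mul_mem_right _ (hδ z))
      (I.mul_mem_right _ (I.mul_mem_right _ hc))
  have htr : H.trace = -(c * (j : A)) := by
    rw [Matrix.trace_sub, Matrix.trace_sum, Matrix.trace_smul, Matrix.trace_single_eq_same, smul_eq_mul, mul_one]
    simp [Matrix.trace_smul, hz2]
  set G' := G * (1 + H)
  have hG' : G'.map (Ideal.Quotient.mk I) = Gb := (map_mul_one_add hH G).trans hG
  have hcγ : c • cf γ = c • cf βA := by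
    funext z
    have := mul_eq_zero_of_mem hI hc (hδ z)
    rw [mul_sub, sub_eq_zero] at this
    exact this.symm
  have hcf : cf (G'ᵀ * βA * G') = (1 - c) • cf βA := by
    rw [show G'ᵀ * βA * G' = (1 + H)ᵀ * γ * (1 + H) by simp [G', γ, Matrix.transpose_mul, Matrix.mul_assoc],
      conj_one_add hI hH, Matrix.mul_sub, cf_sub, Matrix.mul_smul, cf_smul, sub_smul, one_smul, ← hcγ]
    have e := hsum
    rw [smul_sub, smul_smul] at e
    linear_combination (norm := module) e
  have hdetG' : G'.det = 1 - c * (j : A) := by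
    rw [Matrix.det_mul, hGdet, one_mul, det_one_add_of_mem hI hH, htr, ← sub_eq_add_neg]
  have hc0 : c = 0 := by
    have h1 : hd (G'ᵀ * βA * G') = hd ((1 - c) • βA) := hd_eq_of_cf (hcf.trans (cf_smul _ _).symm)
    rw [hd_conj hodd, hd_smul hodd, hdetG'] at h1
    have h2 := hβA.mul_right_cancel h1
    have hc2 : c * c = 0 := mul_eq_zero_of_mem hI hc hc
    have hpow : ∀ e : ℕ, (1 - c) ^ e = 1 - (e : A) * c := by
      intro e
      induction e with
      | zero => simp
      | succ e ih => rw [pow_succ, ih]; push_cast; linear_combination (e : A) * hc2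
    have hncast : (n : A) = 2 * (j : A) + 1 := by rw [hj]; push_cast; ring
    rw [hpow, hncast] at h2
    linear_combination h2 - (j : A) ^ 2 * hc2
  refine ⟨G', ⟨(exists_pre_lift hI hGb G' hG').1, ?_, fun _ => ?_⟩, hG'⟩
  · rw [hcf, hc0, sub_zero, one_smul]
  · rw [hdetG', hc0, zero_mul, sub_zero]

end Lift

/-- `k[X]/(X^3)`. -/
abbrev Trunc3 (k : Type u) [CommRing k] : Type u := Polynomial k ⧸ Ideal.span {(Polynomial.X : Polynomial k) ^ 3}

/-- The class of `X`. -/
def t3 (k : Type u) [CommRing k] : Trunc3 k := Ideal.Quotient.mk _ Polynomial.X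

theorem t3_sq_ne (k : Type u) [Field k] : t3 k ^ 2 ≠ 0 := by
  rw [t3, ← map_pow, Ne, Ideal.Quotient.eq_zero_iff_mem, Ideal.mem_span_singleton]
  intro hdvd
  have := Polynomial.natDegree_le_of_dvd hdvd (by simp)
  simp at this

theorem t3_cube (k : Type u) [CommRing k] : t3 k ^ 3 = 0 := by
  rw [t3, ← map_pow, Ideal.Quotient.eq_zero_iff_mem, Ideal.mem_span_singleton]

theorem not_lift_aux {R : Type u} [CommRing R] {B : Type u} [CommRing B] [Algebra R B] (h2A : (2 : B) = 0) {t : B} (ht3 : t ^ 3 = 0) (ht2 : t ^ 2 ≠ 0)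
    {β : Matrix (Fin n) (Fin n) R} (hn : Odd n) (hβ : IsUnit (hd β)) :
    ∃ (I : Ideal (B)) (_ : I ^ 2 = ⊥) (Gb : Matrix (Fin n) (Fin n) (B ⧸ I)),
      OK β false (B ⧸ I) Gb ∧ ¬ ∃ G, OK β false (B) G ∧ G.map (Ideal.Quotient.mk I) = Gb := by
  let I : Ideal (B) := Ideal.span {t ^ 2}
  have hI : I ^ 2 = ⊥ := by
    rw [Ideal.span_singleton_pow, Ideal.span_singleton_eq_bot]
    linear_combination t * ht3
  set tb := Ideal.Quotient.mk I t
  have htb : tb ^ 2 = 0 := by
    rw [← map_pow, Ideal.Quotient.eq_zero_iff_mem]; exact Ideal.mem_span_singleton_self _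
  have hsq : (1 + tb) ^ 2 = 1 := by
    have : (2 : B ⧸ I) = 0 := by rw [← map_ofNat (Ideal.Quotient.mk I) 2, h2A, map_zero]
    linear_combination tb * this + htb
  obtain ⟨j, hj⟩ := hn
  refine ⟨I, hI, (1 + tb) • 1, ⟨?_, ?_, fun h => absurd h (by decide)⟩, ?_⟩
  · rw [Matrix.det_smul, Matrix.det_one, mul_one, Fintype.card_fin]
    exact (IsUnit.of_mul_eq_one (1 + tb) (by rw [← pow_two, hsq])).pow n
  · rw [Matrix.transpose_smul, Matrix.transpose_one, Matrix.smul_mul, Matrix.one_mul, Matrix.mul_smul, Matrix.mul_one,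
      smul_smul, ← pow_two, hsq, one_smul]
  · rintro ⟨G, ⟨hdet, hcf, -⟩, hG⟩
    have h1 := hd_eq_of_cf hcf
    rw [hd_conj ⟨j, hj⟩] at h1
    have hu : IsUnit (hd (β.map (algebraMap R (B)))) := by rw [hd_map]; exact hβ.map _
    have hd2 : G.det ^ 2 = 1 := hu.mul_right_cancel (by rw [one_mul, h1])
    have h3 : Ideal.Quotient.mk I (G.det - (1 + t)) = 0 := by
      rw [map_sub, RingHom.map_det, RingHom.mapMatrix_apply, hG, Matrix.det_smul, Matrix.det_one, mul_one,
        Fintype.card_fin, map_add, map_one, sub_eq_zero, hj, pow_succ, pow_mul, hsq, one_pow, one_mul]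
    rw [Ideal.Quotient.eq_zero_iff_mem, Ideal.mem_span_singleton'] at h3
    obtain ⟨a, ha⟩ := h3
    apply ht2
    have hG' : G.det = 1 + t + a * t ^ 2 := by linear_combination -ha
    rw [hG'] at hd2
    linear_combination hd2 - (t + a * t ^ 2) * h2A - (2 * a + a ^ 2 * t) * ht3

/-- The converse: in odd rank with `2` not a unit, isometries do not lift. -/
theorem not_lift {R : Type u} [CommRing R] {β : Matrix (Fin n) (Fin n) R} (hn : Odd n) (hβ : IsUnit (hd β))
    (h2 : ¬ IsUnit (2 : R)) :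
    ¬ ∀ (A : Type u) [CommRing A] [Algebra R A] (I : Ideal A), I ^ 2 = ⊥ →
      ∀ Gb, OK β false (A ⧸ I) Gb → ∃ G, OK β false A G ∧ G.map (Ideal.Quotient.mk I) = Gb := by
  obtain ⟨m, hm, hle⟩ := Ideal.exists_le_maximal (Ideal.span {(2 : R)}) (by rwa [Ne, Ideal.span_singleton_eq_top])
  have h2m : (2 : R ⧸ m) = 0 := by
    rw [← map_ofNat (Ideal.Quotient.mk m) 2]
    exact Ideal.Quotient.eq_zero_iff_mem.2 (hle (Ideal.mem_span_singleton_self 2))
  let := Ideal.Quotient.field m
  obtain ⟨I, hI, Gb, hGb, hno⟩ := not_lift_aux (R := R) (B := Trunc3 (R ⧸ m))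
    (by rw [← map_ofNat (algebraMap (R ⧸ m) (Trunc3 (R ⧸ m))) 2, h2m, map_zero]) (t3_cube _) (t3_sq_ne _) hn hβ
  exact fun h => hno (h _ I hI Gb hGb)

end Groth.Misc12.Quad

namespace Groth.Misc12.Quad

open CategoryTheory AlgebraicGeometry

theorem polarBilin_toMatrix_eq {R : Type u} [CommRing R] {n : ℕ} (Q : QuadraticForm R (Fin n → R)) :
    LinearMap.BilinForm.toMatrix (Pi.basisFun R (Fin n)) Q.polarBilin = betaM Q + (betaM Q)ᵀ := by
  ext i j
  rw [LinearMap.BilinForm.toMatrix_apply, Pi.basisFun_apply, Pi.basisFun_apply]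
  change QuadraticMap.polar Q _ _ = _
  rw [← sum_polar Q (Pi.single i 1) (Pi.single j 1)]
  simp [Pi.single_apply, betaM]

theorem isUnit_det_polar {R : Type u} [CommRing R] {n : ℕ} {Q : QuadraticForm R (Fin n → R)} (hQ : QuadGrp.IsRegular Q) :
    IsUnit (betaM Q + (betaM Q)ᵀ).det := by
  rw [← polarBilin_toMatrix_eq]
  set b := Pi.basisFun R (Fin n)
  rw [← Matrix.isUnit_iff_isUnit_det]
  let e : (Fin n → R) ≃ₗ[R] Module.Dual R (Fin n → R) := LinearEquiv.ofBijective Q.polarBilin hQ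
  have he : LinearMap.BilinForm.toMatrix b Q.polarBilin = (LinearMap.toMatrix b b.dualBasis e.toLinearMap)ᵀ := by
    ext i j
    rw [Matrix.transpose_apply, LinearMap.toMatrix_apply, Module.Basis.dualBasis_repr, LinearMap.BilinForm.toMatrix_apply]
    rfl
  rw [he, Matrix.isUnit_transpose, Matrix.isUnit_iff_isUnit_det]
  exact LinearEquiv.isUnit_det e b b.dualBasis

theorem isUnit_hd_beta {R : Type u} [CommRing R] {n : ℕ} {Q : QuadraticForm R (Fin n → R)}
    (hQ : QuadGrp.IsSemiregular (Pi.basisFun R (Fin n)) (LinearEquiv.refl R R) Q) : IsUnit (hd (betaM Q)) := by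
  have h := halfDisc_eq_hd (Pi.basisFun R (Fin n)) Q (QuadGrp.bilinLift Q) (QuadGrp.bilinLift_spec Q)
  rw [show LinearMap.BilinForm.toMatrix (Pi.basisFun R (Fin n)) (QuadGrp.bilinLift Q) = betaM Q by
    ext i j
    rw [LinearMap.BilinForm.toMatrix_apply, Pi.basisFun_apply, Pi.basisFun_apply]
    rfl] at h
  exact h ▸ hQ

theorem isUnit_det_polar_of_two {R : Type u} [CommRing R] {n : ℕ} {Q : QuadraticForm R (Fin n → R)}
    (hQ : QuadGrp.IsNondeg (Pi.basisFun R (Fin n)) (LinearEquiv.refl R R) Q) (h : Even n ∨ IsUnit (2 : R)) :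
    IsUnit (betaM Q + (betaM Q)ᵀ).det := by
  rcases Nat.even_or_odd n with he | ho
  · exact isUnit_det_polar (hQ.1 he)
  · rw [← two_mul_hd ho]
    exact (h.resolve_left (Nat.not_even_iff_odd.2 ho)).mul (isUnit_hd_beta (hQ.2 ho))

theorem orth_smooth_iff {R : Type u} [CommRing R] {n : ℕ} {Q : QuadraticForm R (Fin n → R)}
    (hQ : QuadGrp.IsNondeg (Pi.basisFun R (Fin n)) (LinearEquiv.refl R R) Q)
    (G : Over (Spec (CommRingCat.of R))) [GrpObj G] (D : QuadGrp.OrthRep Q G) :
    AlgebraicGeometry.Smooth G.hom ↔ (Even n ∨ IsUnit (2 : R)) := by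
  rw [smooth_iff_lift _ G D (betaM Q) false fun A _ _ h => mem_orth_iff_ok Q A h]
  constructor
  · intro h
    by_contra hcon
    push Not at hcon
    have ho := Nat.not_even_iff_odd.1 hcon.1
    exact not_lift ho (isUnit_hd_beta (hQ.2 ho)) hcon.2 h
  · intro h A _ _ I hI Gb hGb
    exact lift_regular (isUnit_det_polar_of_two hQ h) false (fun hs => absurd hs (by decide)) hI hGb

theorem sorth'_smooth {R : Type u} [CommRing R] {n : ℕ} {Q : QuadraticForm R (Fin n → R)}
    (hQ : QuadGrp.IsNondeg (Pi.basisFun R (Fin n)) (LinearEquiv.refl R R) Q)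
    (G : Over (Spec (CommRingCat.of R))) [GrpObj G] (D : QuadGrp.SOrth'Rep Q G) (h : Odd n ∨ IsUnit (2 : R)) :
    AlgebraicGeometry.Smooth G.hom := by
  rw [smooth_iff_lift _ G D (betaM Q) true fun A _ _ g => mem_sorth'_iff_ok Q A g]
  intro A _ _ I hI Gb hGb
  rcases h with ho | h2
  · exact lift_semiregular ho (isUnit_hd_beta (hQ.2 ho)) hI hGb
  · exact lift_regular (isUnit_det_polar_of_two hQ (Or.inr h2)) true (fun _ => h2) hI hGb

end Groth.Misc12.Quad
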