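import Groth.Prelude.Def_QuadGrp2
import Mathlib.AlgebraicGeometry.Gluing
import Mathlib.AlgebraicGeometry.Cover.Open

/-!
A morphism over an affine base which is bijective on all affine points is an isomorphism.
-/

set_option autoImplicit false

noncomputable section

open CategoryTheory Limits AlgebraicGeometry

universe u

namespace Groth.Misc12.Quad

variable {R : Type u} [CommRing R]

theorem exists_specOver (S : CommRingCat.{u}) (g : Spec S ⟶ Spec (CommRingCat.of R)) :
    ∃ alg : Algebra R S, g = Spec.map (CommRingCat.ofHom (@algebraMap R S _ _ alg)) :=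
  ⟨(Spec.preimage g).hom.toAlgebra, (Spec.map_preimage g).symm⟩

variable {X Y : Over (Spec (CommRingCat.of R))} (f : X ⟶ Y)

theorem spec_points (hf : ∀ (A : Type u) [CommRing A] [Algebra R A],
      Function.Bijective fun y : QuadGrp.specOver R A ⟶ X => y ≫ f)
    (S : CommRingCat.{u}) (g : Spec S ⟶ Y.left) :
    ∃! a : Spec S ⟶ X.left, a ≫ f.left = g ∧ a ≫ X.hom = g ≫ Y.hom := by
  obtain ⟨alg, hg⟩ := exists_specOver S (g ≫ Y.hom)
  let := alg
  let g' : QuadGrp.specOver R S ⟶ Y := Over.homMk g hg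
  obtain ⟨y, hy⟩ := (hf S).2 g'
  refine ⟨y.left, ⟨congrArg CommaMorphism.left hy, (Over.w y).trans hg.symm⟩, ?_⟩
  rintro a ⟨ha, ha'⟩
  let y' : QuadGrp.specOver R S ⟶ X := Over.homMk a (ha'.trans hg)
  have : y' = y := (hf S).1 (Over.OverMorphism.ext (ha.trans (congrArg CommaMorphism.left hy).symm))
  exact congrArg CommaMorphism.left this

theorem hom_ext_of_points (hf : ∀ (A : Type u) [CommRing A] [Algebra R A],
      Function.Bijective fun y : QuadGrp.specOver R A ⟶ X => y ≫ f)
    {T : Scheme.{u}} (a b : T ⟶ X.left) (h : a ≫ f.left = b ≫ f.left) : a = b := by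
  refine T.affineCover.hom_ext _ _ fun i => ?_
  obtain ⟨c, -, hc⟩ := spec_points f hf _ (T.affineCover.f i ≫ a ≫ f.left)
  have hw : f.left ≫ Y.hom = X.hom := Over.w f
  refine (hc (T.affineCover.f i ≫ a) ⟨Category.assoc _ _ _, ?_⟩).trans
    (hc (T.affineCover.f i ≫ b) ⟨?_, ?_⟩).symm
  · exact (Category.assoc _ _ _).trans ((congrArg (fun e => T.affineCover.f i ≫ a ≫ e) hw.symm).trans
      ((congrArg (fun e => T.affineCover.f i ≫ e) (Category.assoc a f.left Y.hom).symm).trans (Category.assoc _ _ _).symm))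
  · exact (Category.assoc _ _ _).trans (congrArg (fun e => T.affineCover.f i ≫ e) h.symm)
  · refine (Category.assoc _ _ _).trans ((congrArg (fun e => T.affineCover.f i ≫ b ≫ e) hw.symm).trans ?_)
    exact (congrArg (fun e => T.affineCover.f i ≫ e)
      ((Category.assoc b f.left Y.hom).symm.trans (congrArg (fun e => e ≫ Y.hom) h.symm))).trans (Category.assoc _ _ _).symm

theorem isIso_of_points (hf : ∀ (A : Type u) [CommRing A] [Algebra R A],
      Function.Bijective fun y : QuadGrp.specOver R A ⟶ X => y ≫ f) : IsIso f.left := by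
  let 𝒰 := Y.left.affineCover
  choose s hs using fun i => (spec_points f hf _ (𝒰.f i)).exists
  have hcompat : ∀ i j, pullback.fst (𝒰.f i) (𝒰.f j) ≫ s i = pullback.snd (𝒰.f i) (𝒰.f j) ≫ s j := by
    intro i j
    refine hom_ext_of_points f hf _ _ ?_
    refine (Category.assoc _ _ _).trans (Eq.trans ?_ (Category.assoc _ _ _).symm)
    exact (congrArg (pullback.fst _ _ ≫ ·) (hs i).1).trans (pullback.condition.trans (congrArg (pullback.snd _ _ ≫ ·) (hs j).1).symm)
  let g := 𝒰.glueMorphisms s hcompat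
  have h1 : g ≫ f.left = 𝟙 Y.left := 𝒰.hom_ext _ _ fun i => by
    rw [𝒰.ι_glueMorphisms_assoc s hcompat i]; exact (hs i).1.trans (Category.comp_id _).symm
  exact ⟨g, hom_ext_of_points f hf _ _ (by rw [Category.assoc, h1, Category.comp_id, Category.id_comp]), h1⟩

end Groth.Misc12.Quad
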