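import Groth.Prelude.Def_QuadGrp
import Mathlib.Algebra.DualNumber
import Mathlib.LinearAlgebra.Reflection
import Mathlib.LinearAlgebra.Matrix.SchurComplement
import Mathlib.LinearAlgebra.Trace
import Mathlib.RingTheory.Localization.Away.Basic
import Mathlib.RingTheory.Nakayama
import Mathlib.Algebra.Group.UniqueProds.Basic
import Mathlib.Algebra.MvPolynomial.NoZeroDivisors
import Mathlib.RingTheory.TensorProduct.Free
import Mathlib.LinearAlgebra.StdBasis

/-!
The centralisers of orthogonal groups: infinitesimal rotations over the dual numbers and generic reflections.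
-/

set_option autoImplicit false
set_option linter.unusedSectionVars false

noncomputable section

open scoped TensorProduct
open QuadraticMap

universe u v

namespace Groth.Misc12.Quad

/-! ### Polynomials with unit content -/

section McCoy

variable {R : Type u} [CommRing R] {σ : Type v}

theorem mvPoly_eq_zero_of_mul_eq_zero {f g : MvPolynomial σ R}
    (hg : ∀ m : Ideal R, m.IsMaximal → ∃ x : σ → R, MvPolynomial.eval x g ∉ m) (h : f * g = 0) : f = 0 := by
  classical
  let I : Ideal R := Ideal.span (f.support.image fun s => MvPolynomial.coeff s f : Finset R)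
  have hmem : ∀ s, MvPolynomial.coeff s f ∈ I := by
    intro s
    by_cases hs : s ∈ f.support
    · exact Ideal.subset_span (Finset.mem_coe.2 (Finset.mem_image_of_mem _ hs))
    · rw [MvPolynomial.notMem_support_iff.1 hs]; exact zero_mem _
  have key : ∀ m : Ideal R, m.IsMaximal → I ≤ m • I := by
    intro m hm
    obtain ⟨x, hx⟩ := hg m hm
    let S := g.support.filter fun s => MvPolynomial.coeff s g ∉ m
    have hS : S.Nonempty := by
      by_contra hne
      apply hx
      rw [MvPolynomial.eval_eq]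
      refine Ideal.sum_mem _ fun d hd => Ideal.mul_mem_right _ _ ?_
      by_contra hd'
      exact hne ⟨d, Finset.mem_filter.2 ⟨hd, hd'⟩⟩
    let T := f.support.filter fun t => MvPolynomial.coeff t f ∉ m • I
    refine Ideal.span_le.2 fun c hc => ?_
    rw [Finset.mem_coe, Finset.mem_image] at hc
    obtain ⟨t₁, ht₁, rfl⟩ := hc
    by_contra hcon
    obtain ⟨t, ht, s, hs, huniq⟩ := UniqueSums.uniqueAdd_of_nonempty (A := T) (B := S)
      ⟨t₁, Finset.mem_filter.2 ⟨ht₁, hcon⟩⟩ hS
    have h0 := congrArg (MvPolynomial.coeff (t + s)) h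
    rw [MvPolynomial.coeff_mul, MvPolynomial.coeff_zero] at h0
    have hrest : ∀ z ∈ Finset.antidiagonal (t + s), z ≠ (t, s) →
        MvPolynomial.coeff z.1 f * MvPolynomial.coeff z.2 g ∈ m • I := by
      intro z hz hne
      by_cases h1 : MvPolynomial.coeff z.1 f ∈ m • I
      · exact Ideal.mul_mem_right _ _ h1
      · by_cases h2 : MvPolynomial.coeff z.2 g ∈ m
        · rw [mul_comm]; exact Submodule.smul_mem_smul h2 (hmem _)
        · exfalso
          have hzT : z.1 ∈ T := Finset.mem_filter.2 ⟨MvPolynomial.mem_support_iff.2 fun e => h1 (e ▸ zero_mem _), h1⟩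
          have hzS : z.2 ∈ S := Finset.mem_filter.2 ⟨MvPolynomial.mem_support_iff.2 fun e => h2 (e ▸ zero_mem _), h2⟩
          obtain ⟨e1, e2⟩ := huniq hzT hzS (Finset.mem_antidiagonal.1 hz)
          exact hne (Prod.ext e1 e2)
    rw [← Finset.add_sum_erase (Finset.antidiagonal (t + s)) _ (a := (t, s)) (Finset.mem_antidiagonal.2 rfl)] at h0
    have hts : MvPolynomial.coeff t f * MvPolynomial.coeff s g ∈ m • I := by
      rw [eq_neg_of_add_eq_zero_left h0]
      exact neg_mem (Ideal.sum_mem _ fun z hz => hrest z (Finset.mem_of_mem_erase hz) (Finset.ne_of_mem_erase hz))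
    obtain ⟨a, e, he, hae⟩ := hm.exists_inv (Finset.mem_filter.1 hs).2
    apply (Finset.mem_filter.1 ht).2
    have : MvPolynomial.coeff t f =
        a * (MvPolynomial.coeff t f * MvPolynomial.coeff s g) + e * MvPolynomial.coeff t f := by
      linear_combination -(MvPolynomial.coeff t f) * hae
    rw [this]
    exact add_mem (Ideal.mul_mem_left _ _ hts) (Submodule.smul_mem_smul he (hmem t))
  have hI : I = ⊥ := by
    have hann : Submodule.annihilator I = ⊤ := by
      by_contra hne
      obtain ⟨m, hm, hle⟩ := Ideal.exists_le_maximal _ hne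
      obtain ⟨r, hr1, hr2⟩ := Submodule.exists_sub_one_mem_and_smul_eq_zero_of_fg_of_le_smul m I
        ⟨_, rfl⟩ (key m hm)
      have : r ∈ m := hle (Submodule.mem_annihilator.2 hr2)
      exact hm.ne_top ((Ideal.eq_top_iff_one _).2 (by simpa using sub_mem this hr1))
    exact Submodule.annihilator_eq_top_iff.1 hann
  ext s
  rw [MvPolynomial.coeff_zero, ← Ideal.mem_bot, ← hI]
  exact hmem s

end McCoy

/-! ### Infinitesimal rotations -/

section Rot

variable {R : Type u} [CommRing R] {M : Type v} [AddCommGroup M] [Module R M] (Q : QuadraticForm R M)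

/-- `v ↦ B(v,b) a − B(v,a) b`. -/
def rot (a b : M) : M →ₗ[R] M :=
  (Q.polarBilin.flip b).smulRight a - (Q.polarBilin.flip a).smulRight b

theorem rot_apply (a b v : M) : rot Q a b v = polar Q v b • a - polar Q v a • b := rfl

theorem polar_rot_self (a b v : M) : polar Q v (rot Q a b v) = 0 := by
  rw [rot_apply, sub_eq_add_neg, ← neg_smul, polar_add_right, polar_smul_right, polar_smul_right, smul_eq_mul, smul_eq_mul]
  ring

variable {ε : R}

/-- `1 + ε rot`. -/
def infRot (hε : ε * ε = 0) (a b : M) : M ≃ₗ[R] M :=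
  LinearEquiv.ofLinearMap (LinearMap.id + ε • rot Q a b) (LinearMap.id - ε • rot Q a b)
    (LinearMap.ext fun v => by
      change (v - ε • rot Q a b v) + ε • rot Q a b (v - ε • rot Q a b v) = v
      rw [map_sub, map_smul, smul_sub, smul_smul, hε, zero_smul, sub_zero, sub_add_cancel])
    (LinearMap.ext fun v => by
      change (v + ε • rot Q a b v) - ε • rot Q a b (v + ε • rot Q a b v) = v
      rw [map_add, map_smul, smul_add, smul_smul, hε, zero_smul, add_zero, add_sub_cancel_right])

theorem infRot_apply (hε : ε * ε = 0) (a b v : M) : infRot Q hε a b v = v + ε • rot Q a b v := rfl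

theorem infRot_mem_O (hε : ε * ε = 0) (a b : M) : infRot Q hε a b ∈ QuadGrp.O Q := fun v => by
  rw [infRot_apply, QuadraticMap.map_add (⇑Q), QuadraticMap.map_smul, polar_smul_right, polar_rot_self, hε, zero_smul,
    smul_zero, add_zero, add_zero]

theorem trace_rot [Module.Free R M] [Module.Finite R M] (a b : M) : LinearMap.trace R M (rot Q a b) = 0 := by
  rw [rot, map_sub, LinearMap.trace_smulRight, LinearMap.trace_smulRight]
  change polar Q a b - polar Q b a = 0
  rw [polar_comm, sub_self]

theorem det_infRot [Module.Free R M] [Module.Finite R M] (hε : ε * ε = 0) (a b : M) :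
    LinearEquiv.det (infRot Q hε a b) = 1 := by
  ext
  rw [LinearEquiv.coe_det, Units.val_one]
  let c := Module.Free.chooseBasis R M
  rw [← LinearMap.det_toMatrix c]
  change (LinearMap.toMatrix c c (LinearMap.id + ε • rot Q a b)).det = 1
  rw [map_add, LinearMap.toMatrix_id, map_smul, Matrix.det_one_add_smul, ← LinearMap.trace_eq_matrix_trace R c,
    trace_rot, zero_mul, add_zero, pow_two, hε, mul_zero, add_zero]

theorem infRot_dickson (hε : ε * ε = 0) (a b : M) :
    QuadGrp.IsDicksonTrivial Q (infRot Q hε a b) (infRot_mem_O Q hε a b) := by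
  intro z hz
  set y : CliffordAlgebra Q := CliffordAlgebra.ι Q a * CliffordAlgebra.ι Q b
  let Ψ : CliffordAlgebra Q →ₐ[R] CliffordAlgebra Q :=
    AlgHom.ofLinearMap (LinearMap.id + ε • (LinearMap.mulLeft R y - LinearMap.mulRight R y))
      (by simp) (fun x x' => by
        change x * x' + ε • (y * (x * x') - x * x' * y) =
          (x + ε • (y * x - x * y)) * (x' + ε • (y * x' - x' * y))
        rw [add_mul, mul_add, mul_add, mul_smul_comm, smul_mul_smul_comm, hε, zero_smul, add_zero, smul_mul_assoc,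
          add_assoc, ← smul_add]
        congr 2
        simp only [sub_mul, mul_sub, mul_assoc]
        abel)
  have hΨ : CliffordAlgebra.map (QuadGrp.isometryOfMem Q _ (infRot_mem_O Q hε a b)) = Ψ := by
    refine CliffordAlgebra.hom_ext (LinearMap.ext fun v => ?_)
    simp only [LinearMap.comp_apply, AlgHom.toLinearMap_apply]
    rw [CliffordAlgebra.map_apply_ι]
    change CliffordAlgebra.ι Q (v + ε • rot Q a b v) = CliffordAlgebra.ι Q v + ε • (y * CliffordAlgebra.ι Q v - CliffordAlgebra.ι Q v * y)
    rw [map_add, map_smul]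
    congr 2
    rw [rot_apply, map_sub, map_smul, map_smul, mul_assoc, ← mul_assoc (CliffordAlgebra.ι Q v),
      CliffordAlgebra.ι_mul_ι_comm b v, CliffordAlgebra.ι_mul_ι_comm v a, mul_sub, sub_mul, mul_assoc,
      ← Algebra.commutes, ← Algebra.smul_def, ← Algebra.smul_def, polar_comm Q b v]
    abel
  rw [hΨ]
  have hy : y ∈ CliffordAlgebra.even Q := CliffordAlgebra.ι_mul_ι_mem_evenOdd_zero Q a b
  have hcomm : (z : CliffordAlgebra Q) * y = y * z :=
    congrArg Subtype.val ((Subalgebra.mem_center_iff.1 hz) ⟨y, hy⟩).symm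
  change (z : CliffordAlgebra Q) + ε • (y * z - z * y) = z
  rw [hcomm, sub_self, smul_zero, add_zero]

end Rot

/-! ### Base change -/

section BC

variable {R : Type u} [CommRing R] {n : ℕ} (Q : QuadraticForm R (Fin n → R))
variable (A : Type u) [CommRing A] [Algebra R A]

/-- The standard basis of `A ⊗ R^n`. -/
abbrev stdB : Module.Basis (Fin n) A (A ⊗[R] (Fin n → R)) := Algebra.TensorProduct.basis A (Pi.basisFun R (Fin n))

/-- The coefficients of the chosen bilinear lift. -/
def beta (i j : Fin n) : R := QuadGrp.bilinLift Q (Pi.single i 1) (Pi.single j 1)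

theorem stdB_apply (i : Fin n) : stdB (R := R) A i = (1 : A) ⊗ₜ[R] (Pi.single i (1 : R) : Fin n → R) := by
  rw [stdB, Algebra.TensorProduct.basis_apply, Pi.basisFun_apply]

theorem sum_stdB (v : Fin n → R) : ∑ i, algebraMap R A (v i) • stdB (R := R) A i = (1 : A) ⊗ₜ[R] v := by
  simp only [stdB_apply, algebraMap_smul, ← TensorProduct.tmul_smul, ← TensorProduct.tmul_sum]
  congr 1
  funext j
  simp [Finset.sum_apply, Pi.single_apply]

theorem bcForm_sum (c : Fin n → A) :
    QuadGrp.baseChangeForm A Q (∑ i, c i • stdB A i) = ∑ i, ∑ j, c i * c j * algebraMap R A (beta Q i j) := by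
  rw [QuadGrp.baseChangeForm, LinearMap.compQuadraticMap_apply, QuadGrp.baseChange,
    LinearMap.BilinMap.toQuadraticMap_apply, map_sum]
  simp only [LinearMap.sum_apply, map_sum, map_smul, LinearMap.smul_apply, smul_eq_mul, LinearEquiv.coe_toLinearMap]
  simp only [Finset.mul_sum]
  rw [Finset.sum_comm]
  refine Finset.sum_congr rfl fun i _ => Finset.sum_congr rfl fun j _ => ?_
  rw [stdB_apply, stdB_apply, LinearMap.BilinMap.baseChange_tmul, one_mul, TensorProduct.AlgebraTensorModule.rid_tmul,
    ← Algebra.algebraMap_eq_smul_one, beta]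
  ring

theorem bcForm_tmul (a : A) (v : Fin n → R) :
    QuadGrp.baseChangeForm A Q (a ⊗ₜ[R] v) = (a * a) * algebraMap R A (Q v) := by
  rw [QuadGrp.baseChangeForm, LinearMap.compQuadraticMap_apply, QuadGrp.baseChange_tmul, LinearEquiv.coe_toLinearMap,
    TensorProduct.AlgebraTensorModule.rid_tmul, Algebra.smul_def, mul_comm]

theorem polar_bcForm (v w : Fin n → R) :
    polar (QuadGrp.baseChangeForm A Q) ((1 : A) ⊗ₜ[R] v) ((1 : A) ⊗ₜ[R] w) = algebraMap R A (polar Q v w) := by
  simp only [polar, ← TensorProduct.tmul_add, bcForm_tmul, one_mul, map_sub]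

theorem rot_bcForm (a b v : Fin n → R) :
    rot (QuadGrp.baseChangeForm A Q) ((1 : A) ⊗ₜ[R] a) ((1 : A) ⊗ₜ[R] b) ((1 : A) ⊗ₜ[R] v) = (1 : A) ⊗ₜ[R] rot Q a b v := by
  rw [rot_apply, rot_apply, polar_bcForm, polar_bcForm, algebraMap_smul, algebraMap_smul, TensorProduct.tmul_sub,
    TensorProduct.tmul_smul, TensorProduct.tmul_smul]

theorem mem_orth_iff (h : (A ⊗[R] (Fin n → R)) ≃ₗ[A] (A ⊗[R] (Fin n → R))) :
    h ∈ QuadGrp.orth Q A ↔ h ∈ QuadGrp.O (QuadGrp.baseChangeForm A Q) := by
  simp only [QuadGrp.orth, QuadGrp.mem_O, QuadGrp.baseChangeForm, LinearMap.compQuadraticMap_apply,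
    LinearEquiv.coe_toLinearMap, EmbeddingLike.apply_eq_iff_eq]

theorem sum_beta (v : Fin n → R) : ∑ i, ∑ j, v i * v j * beta Q i j = Q v := by
  have h := bcForm_sum Q R v
  rw [show (∑ i, v i • stdB (R := R) R i) = (1 : R) ⊗ₜ[R] v by simpa using sum_stdB (R := R) R v, bcForm_tmul] at h
  simpa using h.symm

theorem sum_polar (v w : Fin n → R) :
    ∑ i, ∑ j, v i * w j * (beta Q i j + beta Q j i) = polar Q v w := by
  rw [polar, ← sum_beta Q (v + w), ← sum_beta Q v, ← sum_beta Q w]
  simp only [← Finset.sum_sub_distrib]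
  have hswap : ∑ i, ∑ j, v i * w j * beta Q j i = ∑ i, ∑ j, w i * v j * beta Q i j := by
    rw [Finset.sum_comm]
    exact Finset.sum_congr rfl fun i _ => Finset.sum_congr rfl fun j _ => by rw [mul_comm (v j)]
  simp only [mul_add, Finset.sum_add_distrib]
  rw [hswap, ← Finset.sum_add_distrib]
  refine Finset.sum_congr rfl fun i _ => ?_
  rw [← Finset.sum_add_distrib]
  refine Finset.sum_congr rfl fun j _ => ?_
  simp only [Pi.add_apply]
  ring

theorem polar_bcForm_sum (c d : Fin n → A) :
    polar (QuadGrp.baseChangeForm A Q) (∑ i, c i • stdB A i) (∑ i, d i • stdB A i) =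
      ∑ i, ∑ j, c i * d j * algebraMap R A (beta Q i j + beta Q j i) := by
  have e : (∑ i, c i • stdB (R := R) A i) + (∑ i, d i • stdB A i) = ∑ i, (c + d) i • stdB A i := by
    simp [add_smul, Finset.sum_add_distrib]
  rw [polar, e, bcForm_sum, bcForm_sum, bcForm_sum]
  have hswap : ∑ i, ∑ j, c i * d j * algebraMap R A (beta Q j i) = ∑ i, ∑ j, d i * c j * algebraMap R A (beta Q i j) := by
    rw [Finset.sum_comm]
    exact Finset.sum_congr rfl fun i _ => Finset.sum_congr rfl fun j _ => by rw [mul_comm (c j)]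
  simp only [map_add, mul_add, Finset.sum_add_distrib, hswap]
  simp only [← Finset.sum_sub_distrib, ← Finset.sum_add_distrib]
  refine Finset.sum_congr rfl fun i _ => Finset.sum_congr rfl fun j _ => ?_
  simp only [Pi.add_apply]
  ring

theorem baseChange_scalar (g : (Fin n → R) ≃ₗ[R] (Fin n → R)) {c : R} (hg : ∀ v, g v = c • v)
    (y : A ⊗[R] (Fin n → R)) : g.baseChange R A (Fin n → R) (Fin n → R) y = algebraMap R A c • y := by
  induction y using TensorProduct.induction_on with
  | zero => simp
  | add x y hx hy => rw [map_add, hx, hy, smul_add]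
  | tmul a v => rw [LinearEquiv.baseChange_tmul, hg, TensorProduct.tmul_smul, algebraMap_smul]

theorem scalar_commutes (g : (Fin n → R) ≃ₗ[R] (Fin n → R)) {c : R} (hg : ∀ v, g v = c • v)
    (h : (A ⊗[R] (Fin n → R)) ≃ₗ[A] (A ⊗[R] (Fin n → R))) :
    g.baseChange R A (Fin n → R) (Fin n → R) * h = h * g.baseChange R A (Fin n → R) (Fin n → R) :=
  LinearEquiv.ext fun y => by
    rw [LinearEquiv.mul_apply, LinearEquiv.mul_apply, baseChange_scalar A g hg, baseChange_scalar A g hg, map_smul]

end BC

/-! ### The rigidity statements -/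

variable {R : Type u} [CommRing R] {n : ℕ}

theorem mul_self_eq_one {Q : QuadraticForm R (Fin n → R)} {g : (Fin n → R) ≃ₗ[R] (Fin n → R)}
    (hg : g ∈ QuadGrp.O Q) (hunit : ∀ m : Ideal R, m.IsMaximal → ∃ v, Q v ∉ m) {c : R} (hc : ∀ v, g v = c • v) :
    c * c = 1 := by
  by_contra hne
  have hI : (Submodule.annihilator (Ideal.span {c * c - 1} : Ideal R)) ≠ ⊤ := by
    intro htop
    rw [Submodule.annihilator_eq_top_iff, Ideal.span_singleton_eq_bot] at htop
    exact hne (sub_eq_zero.1 htop)
  obtain ⟨m, hm, hle⟩ := Ideal.exists_le_maximal _ hI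
  obtain ⟨v, hv⟩ := hunit m hm
  refine hv (hle ((Submodule.mem_annihilator_span_singleton _ _).2 ?_))
  have := hg v
  rw [hc, QuadraticMap.map_smul, smul_eq_mul] at this
  rw [smul_eq_mul, mul_sub, mul_one, mul_comm (Q v), this, sub_self]

/-- A `g` commuting with all infinitesimal rotations of a regular form is scalar. -/
theorem scalar_of_commutes_rot (hn : 3 ≤ n) {Q : QuadraticForm R (Fin n → R)} (hQ : QuadGrp.IsRegular Q)
    {g : (Fin n → R) ≃ₗ[R] (Fin n → R)} (hg : g ∈ QuadGrp.O Q)
    (hcomm : ∀ a b v, g (rot Q a b v) = rot Q a b (g v)) : ∃ c : R, c * c = 1 ∧ ∀ v, g v = c • v := by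
  let G : Fin n → Fin n → R := fun i j => g (Pi.single j 1) i
  have hiso : ∀ v w, polar Q (g v) (g w) = polar Q v w := fun v w => by
    simp only [polar, ← map_add, hg _]
  have hminor : ∀ k i a b, G k b * G i a - G k a * G i b =
      (if k = b then 1 else 0) * (if i = a then 1 else 0) - (if k = a then 1 else 0) * (if i = b then 1 else 0) := by
    intro k i a b
    obtain ⟨w, hw⟩ := hQ.2 (LinearMap.proj k)
    have hw' : ∀ y, polar Q w y = y k := fun y => DFunLike.congr_fun hw y
    have h1 := hcomm (Pi.single a 1) (Pi.single b 1) (g.symm w)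
    rw [LinearEquiv.apply_symm_apply, rot_apply, rot_apply, map_sub, map_smul, map_smul, hw', hw',
      ← hiso (g.symm w) (Pi.single b 1), ← hiso (g.symm w) (Pi.single a 1), LinearEquiv.apply_symm_apply, hw', hw'] at h1
    have h2 := congrFun h1 i
    simp only [Pi.sub_apply, Pi.smul_apply, smul_eq_mul, Pi.single_apply] at h2
    exact h2
  have hoff : ∀ i a, i ≠ a → G i a = 0 := by
    intro i a hia
    obtain ⟨b, hbi, hba⟩ : ∃ b : Fin n, b ≠ i ∧ b ≠ a := by
      have hcard : ((Finset.univ.erase i).erase a).Nonempty := by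
        rw [← Finset.card_pos, Finset.card_erase_of_mem (Finset.mem_erase.2 ⟨Ne.symm hia, Finset.mem_univ _⟩),
          Finset.card_erase_of_mem (Finset.mem_univ _), Finset.card_univ, Fintype.card_fin]
        omega
      obtain ⟨b, hb⟩ := hcard
      exact ⟨b, (Finset.mem_erase.1 (Finset.mem_of_mem_erase hb)).1, (Finset.mem_erase.1 hb).1⟩
    have e1 := hminor b a a b
    have e2 := hminor b i a b
    have e3 := hminor a i a b
    simp only [if_true, if_neg hba, if_neg hia, if_neg (Ne.symm hba), if_neg (Ne.symm hbi)] at e1 e2 e3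
    linear_combination (-G i a) * e1 + G a a * e2 + (-G b a) * e3
  have hdiag : ∀ a b, a ≠ b → G a a * G b b = 1 := by
    intro a b hab
    have e1 := hminor b a a b
    simp only [if_true, if_neg hab, if_neg (Ne.symm hab)] at e1
    rw [hoff a b hab] at e1
    linear_combination e1
  have hsame : ∀ a b, G a a = G b b := by
    intro a b
    rcases eq_or_ne a b with rfl | hab
    · rfl
    obtain ⟨c, hca, hcb⟩ : ∃ c : Fin n, c ≠ a ∧ c ≠ b := by
      have hcard : ((Finset.univ.erase a).erase b).Nonempty := by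
        rw [← Finset.card_pos, Finset.card_erase_of_mem (Finset.mem_erase.2 ⟨Ne.symm hab, Finset.mem_univ _⟩),
          Finset.card_erase_of_mem (Finset.mem_univ _), Finset.card_univ, Fintype.card_fin]
        omega
      obtain ⟨b', hb⟩ := hcard
      exact ⟨b', (Finset.mem_erase.1 (Finset.mem_of_mem_erase hb)).1, (Finset.mem_erase.1 hb).1⟩
    linear_combination (-G a a) * hdiag b c (Ne.symm hcb) + G b b * hdiag a c (Ne.symm hca)
  let i₀ : Fin n := ⟨0, by omega⟩
  let i₁ : Fin n := ⟨1, by omega⟩
  refine ⟨G i₀ i₀, ?_, ?_⟩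
  · have := hdiag i₀ i₁ (by simp [i₀, i₁])
    rwa [hsame i₁ i₀] at this
  intro v
  have : g.toLinearMap = G i₀ i₀ • LinearMap.id := by
    refine (Pi.basisFun R (Fin n)).ext fun j => funext fun i => ?_
    simp only [Pi.basisFun_apply, LinearMap.smul_apply, LinearMap.id_apply, Pi.smul_apply, smul_eq_mul, Pi.single_apply]
    change G i j = _
    rcases eq_or_ne i j with rfl | hij
    · rw [if_pos rfl, mul_one, hsame]
    · rw [if_neg hij, mul_zero, hoff i j hij]
  exact DFunLike.congr_fun this v

theorem commutes_rot_of_commutes {Q : QuadraticForm R (Fin n → R)} {g : (Fin n → R) ≃ₗ[R] (Fin n → R)}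
    (a b : Fin n → R) (hε : (DualNumber.eps : DualNumber R) * DualNumber.eps = 0)
    (h : g.baseChange R (DualNumber R) (Fin n → R) (Fin n → R) *
        infRot (QuadGrp.baseChangeForm (DualNumber R) Q) hε ((1 : DualNumber R) ⊗ₜ[R] a) ((1 : DualNumber R) ⊗ₜ[R] b) =
      infRot (QuadGrp.baseChangeForm (DualNumber R) Q) hε ((1 : DualNumber R) ⊗ₜ[R] a) ((1 : DualNumber R) ⊗ₜ[R] b) *
        g.baseChange R (DualNumber R) (Fin n → R) (Fin n → R)) (v : Fin n → R) :
    g (rot Q a b v) = rot Q a b (g v) := by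
  have h1 := LinearEquiv.congr_fun h ((1 : DualNumber R) ⊗ₜ[R] v)
  rw [LinearEquiv.mul_apply, LinearEquiv.mul_apply, infRot_apply, map_add, map_smul, rot_bcForm,
    LinearEquiv.baseChange_tmul, LinearEquiv.baseChange_tmul, infRot_apply, rot_bcForm, add_right_inj,
    TensorProduct.smul_tmul', TensorProduct.smul_tmul', smul_eq_mul, mul_one] at h1
  have h2 := congrArg (fun t => TensorProduct.lid R (Fin n → R) (LinearMap.rTensor _ (TrivSqZeroExt.sndHom R R) t)) h1
  simpa using h2

theorem exists_polar_notMem {Q : QuadraticForm R (Fin n → R)} (hn : 2 ≤ n)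
    (hQ : QuadGrp.IsNondeg (Pi.basisFun R (Fin n)) (LinearEquiv.refl R R) Q) (m : Ideal R) (hm : m.IsMaximal) :
    ∃ v w, polar Q v w ∉ m := by
  classical
  by_contra hcon
  push Not at hcon
  let i₀ : Fin n := ⟨0, by omega⟩
  rcases Nat.even_or_odd n with he | ho
  · obtain ⟨w, hw⟩ := (hQ.1 he).2 (LinearMap.proj i₀)
    have := hcon w (Pi.single i₀ 1)
    rw [show polar Q w (Pi.single i₀ 1) = (Pi.single i₀ 1 : Fin n → R) i₀ from DFunLike.congr_fun hw _, Pi.single_eq_same] at this
    exact hm.ne_top ((Ideal.eq_top_iff_one _).2 this)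
  · have hunit := hQ.2 ho
    apply hm.ne_top
    refine Ideal.eq_top_of_isUnit_mem _ ?_ hunit
    set a := QuadGrp.coeffs (Pi.basisFun R (Fin n)) (LinearEquiv.refl R R) Q
    have hoff : ∀ z : Sym2 (Fin n), ¬ z.IsDiag → a z ∈ m := by
      intro z
      induction z using Sym2.inductionOn with
      | hf i j =>
        intro hij
        rw [Sym2.mk_isDiag_iff] at hij
        rw [show a (Sym2.mk i j) = _ from QuadGrp.coeffs_mk _ _ _ _ _, if_neg hij]
        exact hcon _ _
    have h2 : ∀ i, 2 * a (Sym2.mk i i) ∈ m := by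
      intro i
      rw [show a (Sym2.mk i i) = _ from QuadGrp.coeffs_mk _ _ _ _ _, if_pos rfl]
      have := hcon (Pi.single i 1) (Pi.single i 1)
      rw [QuadraticMap.polar_self] at this
      simpa [two_nsmul, two_mul] using this
    let ψ : MvPolynomial (Sym2 (Fin n)) ℤ →+* MvPolynomial (Sym2 (Fin n)) ℤ :=
      MvPolynomial.eval₂Hom MvPolynomial.C fun z => if z.IsDiag then MvPolynomial.X z else 0
    have hψ : ∀ (f : MvPolynomial (Sym2 (Fin n)) ℤ) (s : Sym2 (Fin n) →₀ ℕ), (∀ z ∈ s.support, z.IsDiag) →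
        MvPolynomial.coeff s (ψ f) = MvPolynomial.coeff s f := by
      intro f
      induction f using MvPolynomial.induction_on' with
      | add f g hf hg => intro s hs; rw [map_add, MvPolynomial.coeff_add, MvPolynomial.coeff_add, hf s hs, hg s hs]
      | monomial t c =>
        intro s hs
        simp only [ψ, MvPolynomial.eval₂Hom_monomial]
        by_cases ht : ∀ z ∈ t.support, z.IsDiag
        · rw [show (t.prod fun z e => (if z.IsDiag then (MvPolynomial.X z : MvPolynomial (Sym2 (Fin n)) ℤ) else 0) ^ e)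
              = t.prod fun z e => MvPolynomial.X z ^ e from Finset.prod_congr rfl fun z hz => by simp only [if_pos (ht z hz)],
            ← MvPolynomial.monomial_eq]
        · push Not at ht
          obtain ⟨z, hz, hzd⟩ := ht
          rw [show (t.prod fun z e => (if z.IsDiag then (MvPolynomial.X z : MvPolynomial (Sym2 (Fin n)) ℤ) else 0) ^ e) = 0 from
            Finset.prod_eq_zero hz (by simp only [if_neg hzd, zero_pow (Finsupp.mem_support_iff.1 hz)]), mul_zero,
            MvPolynomial.coeff_zero, MvPolynomial.coeff_monomial, if_neg (fun e => hzd (hs z (by rw [← e]; exact hz)))]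
    let S : Sym2 (Fin n) →₀ ℕ := ∑ i : Fin n, Finsupp.single (Sym2.mk i i) 1
    have hdet : ψ (QuadGrp.discUniv n) = MvPolynomial.monomial S (2 ^ n) := by
      rw [QuadGrp.discUniv, RingHom.map_det, show ψ.mapMatrix (QuadGrp.univPolarMat n) =
          Matrix.diagonal fun i => 2 * MvPolynomial.X (Sym2.mk i i) from Matrix.ext fun i j => by
        rw [RingHom.mapMatrix_apply, Matrix.map_apply, QuadGrp.univPolarMat, Matrix.of_apply, Matrix.diagonal_apply]
        rcases eq_or_ne i j with rfl | hij
        · simp [ψ]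
        · simp [ψ, hij], Matrix.det_diagonal, Finset.prod_mul_distrib, Finset.prod_const, Finset.card_univ,
        Fintype.card_fin, MvPolynomial.monomial_sum_index, map_pow, map_ofNat]
      rfl
    rw [QuadGrp.halfDisc, MvPolynomial.eval₂_eq]
    refine Ideal.sum_mem _ fun s _ => ?_
    by_cases hs : ∀ z ∈ s.support, z.IsDiag
    · rw [QuadGrp.coeff_halfDiscUniv, ← hψ _ s hs, hdet, MvPolynomial.coeff_monomial]
      rcases eq_or_ne S s with rfl | hne
      · rw [if_pos rfl, show (2 : ℤ) ^ n / 2 = 2 ^ (n - 2) * 2 by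
          obtain ⟨e, rfl⟩ : ∃ e, n = e + 2 := ⟨n - 2, by omega⟩
          rw [Nat.add_sub_cancel, ← pow_succ, show e + 2 = (e + 1) + 1 from rfl, pow_succ _ (e + 1), Int.mul_ediv_cancel _ (by norm_num)]]
        have hz : Sym2.mk i₀ i₀ ∈ S.support := by
          rw [Finsupp.mem_support_iff, show S (Sym2.mk i₀ i₀) = ∑ i : Fin n, (Finsupp.single (Sym2.mk i i) 1 : Sym2 (Fin n) →₀ ℕ) (Sym2.mk i₀ i₀)
            from Finsupp.finsetSum_apply _ _ _]
          intro h0
          have := Finset.sum_eq_zero_iff.1 h0 i₀ (Finset.mem_univ _)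
          simp at this
        rw [← Finset.mul_prod_erase _ _ hz]
        obtain ⟨e, he⟩ : ∃ e, S (Sym2.mk i₀ i₀) = e + 1 :=
          ⟨S (Sym2.mk i₀ i₀) - 1, by have := Finsupp.mem_support_iff.1 hz; omega⟩
        rw [he, pow_succ, map_mul, map_ofNat]
        have := Ideal.mul_mem_left m ((Int.castRingHom R) (2 ^ (n - 2)) * a (Sym2.mk i₀ i₀) ^ e *
          ∏ z ∈ S.support.erase (Sym2.mk i₀ i₀), a z ^ S z) (h2 i₀)
        convert this using 1
        ring
      · rw [if_neg hne, Int.zero_ediv, map_zero, zero_mul]; exact zero_mem _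
    · push Not at hs
      obtain ⟨z, hz, hzd⟩ := hs
      refine Ideal.mul_mem_left _ _ (Ideal.prod_mem _ hz ?_)
      exact Ideal.pow_mem_of_mem _ (hoff z hzd) _ (Nat.pos_of_ne_zero (Finsupp.mem_support_iff.1 hz))

theorem exists_notMem_of_polar {Q : QuadraticForm R (Fin n → R)} {m : Ideal R} {v w : Fin n → R}
    (h : polar Q v w ∉ m) : ∃ x, Q x ∉ m := by
  by_contra hcon
  push Not at hcon
  exact h (sub_mem (sub_mem (hcon _) (hcon _)) (hcon _))

/-- The localisation of the generic point at the value of the form. -/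
def genericQ (Q : QuadraticForm R (Fin n → R)) : MvPolynomial (Fin n ⊕ Fin n) R :=
  ∑ i, ∑ j, MvPolynomial.X (Sum.inl i) * MvPolynomial.X (Sum.inl j) * MvPolynomial.C (beta Q i j)

abbrev GenRing (Q : QuadraticForm R (Fin n → R)) : Type u := Localization.Away (genericQ Q)

/-- The generic anisotropic vector. -/
def genX (Q : QuadraticForm R (Fin n → R)) : GenRing Q ⊗[R] (Fin n → R) :=
  ∑ i, algebraMap (MvPolynomial (Fin n ⊕ Fin n) R) (GenRing Q) (MvPolynomial.X (Sum.inl i)) • stdB (GenRing Q) i

theorem genX_value (Q : QuadraticForm R (Fin n → R)) :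
    IsUnit (QuadGrp.baseChangeForm (GenRing Q) Q (genX Q)) := by
  have e : QuadGrp.baseChangeForm (GenRing Q) Q (genX Q) =
      algebraMap (MvPolynomial (Fin n ⊕ Fin n) R) (GenRing Q) (genericQ Q) := by
    rw [genX, bcForm_sum]
    change _ = algebraMap (MvPolynomial (Fin n ⊕ Fin n) R) (GenRing Q)
      (∑ i, ∑ j, MvPolynomial.X (Sum.inl i) * MvPolynomial.X (Sum.inl j) * MvPolynomial.C (beta Q i j))
    simp only [map_sum, map_mul]
    rfl
  rw [e]
  exact IsLocalization.Away.algebraMap_isUnit _

def genFun (Q : QuadraticForm R (Fin n → R)) : Module.Dual (GenRing Q) (GenRing Q ⊗[R] (Fin n → R)) :=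
  ((genX_value Q).unit⁻¹ : (GenRing Q)ˣ).val • (QuadGrp.baseChangeForm (GenRing Q) Q).polarBilin.flip (genX Q)

theorem genFun_apply (Q : QuadraticForm R (Fin n → R)) (v : GenRing Q ⊗[R] (Fin n → R)) :
    genFun Q v = ((genX_value Q).unit⁻¹ : (GenRing Q)ˣ).val * polar (QuadGrp.baseChangeForm (GenRing Q) Q) v (genX Q) := rfl

theorem genFun_genX (Q : QuadraticForm R (Fin n → R)) : genFun Q (genX Q) = 2 := by
  rw [genFun_apply, polar_self, two_nsmul, mul_add, IsUnit.val_inv_mul, one_add_one_eq_two]

/-- The generic reflection. -/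
def genRefl (Q : QuadraticForm R (Fin n → R)) :
    (GenRing Q ⊗[R] (Fin n → R)) ≃ₗ[GenRing Q] (GenRing Q ⊗[R] (Fin n → R)) :=
  Module.reflection (genFun_genX Q)

theorem genRefl_mem (Q : QuadraticForm R (Fin n → R)) : genRefl Q ∈ QuadGrp.O (QuadGrp.baseChangeForm (GenRing Q) Q) := by
  intro v
  rw [genRefl, Module.reflection_apply, sub_eq_add_neg, ← neg_smul, QuadraticMap.map_add (⇑(QuadGrp.baseChangeForm (GenRing Q) Q)), QuadraticMap.map_smul,
    polar_smul_right, smul_eq_mul, smul_eq_mul, genFun_apply]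
  have h1 := (genX_value Q).val_inv_mul
  linear_combination (((genX_value Q).unit⁻¹ : (GenRing Q)ˣ).val * polar (QuadGrp.baseChangeForm (GenRing Q) Q) v (genX Q) *
    polar (QuadGrp.baseChangeForm (GenRing Q) Q) v (genX Q)) * h1

theorem det_genRefl (Q : QuadraticForm R (Fin n → R)) : LinearMap.det (genRefl Q).toLinearMap = -1 := by
  set b := stdB (R := R) (n := n) (GenRing Q)
  rw [← LinearMap.det_toMatrix b]
  have e : LinearMap.toMatrix b b (genRefl Q).toLinearMap =
      1 + Matrix.replicateCol Unit (fun i => b.repr (genX Q) i) * Matrix.replicateRow Unit (fun j => - genFun Q (b j)) := by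
    ext i j
    rw [LinearMap.toMatrix_apply, Matrix.add_apply, Matrix.mul_apply, LinearEquiv.coe_toLinearMap, genRefl,
      Module.reflection_apply, map_sub, map_smul, Finsupp.sub_apply, Finsupp.smul_apply, b.repr_self,
      Finsupp.single_apply, Matrix.one_apply, smul_eq_mul]
    simp only [Finset.univ_unique, Finset.sum_singleton, Matrix.replicateCol_apply, Matrix.replicateRow_apply, eq_comm (a := j)]
    ring
  rw [e, Matrix.det_one_add_replicateCol_mul_replicateRow]
  have h2 : genFun Q (genX Q) = ∑ i, b.repr (genX Q) i * genFun Q (b i) := by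
    conv_lhs => rw [← b.sum_repr (genX Q), map_sum]
    simp [map_smul]
  rw [genFun_genX] at h2
  rw [dotProduct]
  simp only [neg_mul, Finset.sum_neg_distrib]
  rw [show ∑ i, genFun Q (b i) * b.repr (genX Q) i = 2 by rw [h2]; exact Finset.sum_congr rfl fun i _ => mul_comm _ _]
  norm_num

theorem scalar_of_commutes_refl {Q : QuadraticForm R (Fin n → R)} (hn : 2 ≤ n)
    (hQ : QuadGrp.IsNondeg (Pi.basisFun R (Fin n)) (LinearEquiv.refl R R) Q)
    {g : (Fin n → R) ≃ₗ[R] (Fin n → R)} (hg : g ∈ QuadGrp.O Q)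
    (hcomm : ∀ v, g.baseChange R (GenRing Q) (Fin n → R) (Fin n → R) (genRefl Q v) =
      genRefl Q (g.baseChange R (GenRing Q) (Fin n → R) (Fin n → R) v)) :
    ∃ c : R, c * c = 1 ∧ ∀ v, g v = c • v := by
  classical
  set A := GenRing Q
  set P := MvPolynomial (Fin n ⊕ Fin n) R
  set BA := QuadGrp.baseChangeForm A Q
  let X : Fin n → P := fun i => MvPolynomial.X (Sum.inl i)
  let Z : Fin n → P := fun i => MvPolynomial.X (Sum.inr i)
  let G : Fin n → Fin n → R := fun i j => g (Pi.single j 1) i
  let GX : Fin n → P := fun i => ∑ j, MvPolynomial.C (G i j) * X j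
  let GZ : Fin n → P := fun i => ∑ j, MvPolynomial.C (G i j) * Z j
  let L : (Fin n → P) → P := fun c => ∑ i, ∑ j, c i * X j * MvPolynomial.C (beta Q i j + beta Q j i)
  let am : P →+* A := algebraMap P A
  let vec : (Fin n → P) → A ⊗[R] (Fin n → R) := fun c => ∑ i, am (c i) • stdB A i
  have hinj : Function.Injective am := by
    refine IsLocalization.injective A (M := Submonoid.powers (genericQ Q)) (Submonoid.powers_le.2 ?_)
    rw [mem_nonZeroDivisors_iff_right]
    intro f hf
    refine mvPoly_eq_zero_of_mul_eq_zero (fun m hm => ?_) hf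
    obtain ⟨v, w, hvw⟩ := exists_polar_notMem hn hQ m hm
    obtain ⟨x, hx⟩ := exists_notMem_of_polar hvw
    refine ⟨Sum.elim x 0, ?_⟩
    simp only [genericQ, map_sum, map_mul, MvPolynomial.eval_X, MvPolynomial.eval_C, Sum.elim_inl]
    rwa [sum_beta]
  have hgvec : ∀ c, g.baseChange R A (Fin n → R) (Fin n → R) (vec c) = vec (fun i => ∑ j, MvPolynomial.C (G i j) * c j) := by
    intro c
    have hb : ∀ j, g.baseChange R A (Fin n → R) (Fin n → R) (stdB A j) = ∑ i, algebraMap R A (G i j) • stdB A i := by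
      intro j
      rw [sum_stdB A (fun i => G i j), stdB_apply, LinearEquiv.baseChange_tmul]
    simp only [vec, map_sum, map_smul, hb, Finset.smul_sum, smul_smul, map_mul, Finset.sum_smul]
    rw [Finset.sum_comm]
    refine Finset.sum_congr rfl fun i _ => Finset.sum_congr rfl fun j _ => ?_
    rw [mul_comm, show am (MvPolynomial.C (G i j)) = algebraMap R A (G i j) from rfl]
  have hpolar : ∀ c, polar BA (vec c) (genX Q) = am (L c) := by
    intro c
    rw [genX, polar_bcForm_sum]
    simp only [L, map_sum, map_mul]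
    rfl
  have hrepr : ∀ c i, (stdB A).repr (vec c) i = am (c i) := fun c i =>
    congrFun ((stdB (R := R) A).repr_sum_self fun j => am (c j)) i
  have key : ∀ i, L Z * GX i = L GZ * X i := by
    intro i
    apply hinj
    have h1 := hcomm (vec Z)
    rw [genRefl, Module.reflection_apply, Module.reflection_apply, map_sub, map_smul, sub_right_inj, genFun_apply,
      genFun_apply, hgvec, hpolar, hpolar, ← smul_smul, ← smul_smul] at h1
    have h2 := ((genX_value Q).unit⁻¹).isUnit.smul_left_cancel.1 h1
    rw [show genX Q = vec X from rfl, hgvec] at h2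
    have h3 := DFunLike.congr_fun (congrArg (stdB (R := R) A).repr h2) i
    rw [map_smul, map_smul, Finsupp.smul_apply, Finsupp.smul_apply, hrepr, hrepr, smul_eq_mul, smul_eq_mul,
      ← map_mul, ← map_mul] at h3
    exact h3
  have hminor : ∀ i j, GX i * X j = GX j * X i := by
    intro i j
    rw [← sub_eq_zero]
    refine mvPoly_eq_zero_of_mul_eq_zero (g := L Z) (fun m hm => ?_) ?_
    · obtain ⟨v, w, hvw⟩ := exists_polar_notMem hn hQ m hm
      refine ⟨Sum.elim w v, ?_⟩
      simp only [L, X, Z, map_sum, map_mul, MvPolynomial.eval_X, MvPolynomial.eval_C, Sum.elim_inl, Sum.elim_inr]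
      rwa [sum_polar]
    · linear_combination X j * key i - X i * key j
  have hev : ∀ (x : Fin n → R) i j, g x i * x j = g x j * x i := by
    intro x i j
    have h1 := congrArg (MvPolynomial.eval (Sum.elim x 0)) (hminor i j)
    have hgx : ∀ i, MvPolynomial.eval (Sum.elim x 0) (GX i) = g x i := by
      intro i
      simp only [GX, X, map_sum, map_mul, MvPolynomial.eval_X, MvPolynomial.eval_C, Sum.elim_inl]
      conv_rhs => rw [pi_eq_sum_univ' x, map_sum, Finset.sum_apply]
      exact Finset.sum_congr rfl fun j _ => by rw [map_smul, Pi.smul_apply, smul_eq_mul, mul_comm]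
    rw [map_mul, map_mul, hgx, hgx] at h1
    simpa [X] using h1
  let i₀ : Fin n := ⟨0, by omega⟩
  have hoff : ∀ i a, i ≠ a → G i a = 0 := fun i a hia => by
    simpa [G, Pi.single_eq_of_ne hia] using hev (Pi.single a 1) i a
  have hdiag : ∀ i a, i ≠ a → G i i = G a a := fun i a hia => by
    have := hev (Pi.single i 1 + Pi.single a 1) i a
    rw [map_add, Pi.add_apply, Pi.add_apply, Pi.add_apply, Pi.add_apply] at this
    simp only [show ∀ i j, g (Pi.single j 1) i = G i j from fun i j => rfl, Pi.single_eq_same,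
      Pi.single_eq_of_ne hia, Pi.single_eq_of_ne (Ne.symm hia), hoff i a hia, hoff a i (Ne.symm hia)] at this
    simpa using this
  have hscal : ∀ v, g v = G i₀ i₀ • v := by
    intro v
    have : g.toLinearMap = G i₀ i₀ • LinearMap.id := by
      refine (Pi.basisFun R (Fin n)).ext fun j => funext fun i => ?_
      simp only [Pi.basisFun_apply, LinearMap.smul_apply, LinearMap.id_apply, Pi.smul_apply, smul_eq_mul, Pi.single_apply]
      change G i j = _
      rcases eq_or_ne i j with rfl | hij
      · rw [if_pos rfl, mul_one]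
        rcases eq_or_ne i i₀ with rfl | h
        · rfl
        · exact hdiag i i₀ h
      · rw [if_neg hij, mul_zero, hoff i j hij]
    exact DFunLike.congr_fun this v
  exact ⟨_, mul_self_eq_one hg (fun m hm => let ⟨v, w, h⟩ := exists_polar_notMem hn hQ m hm; exists_notMem_of_polar h) hscal, hscal⟩

end Groth.Misc12.Quad
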