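import Groth.Prelude.Def_QuadGrp
import Mathlib.LinearAlgebra.SymplecticGroup
import Mathlib.GroupTheory.Perm.Cycle.Type
import Mathlib.LinearAlgebra.FreeModule.Basic
import Mathlib.LinearAlgebra.Matrix.BilinearForm
import Mathlib.LinearAlgebra.Determinant
import Mathlib.Algebra.MvPolynomial.NoZeroDivisors
import Mathlib.Algebra.CharP.Two

/-!
Determinants of isometries: alternating forms, the half-discriminant under linear substitutions.
-/

set_option autoImplicit false

noncomputable section

open Matrix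

universe u v

namespace Groth.Misc12.Quad

section Alt

variable {R : Type u} [CommRing R] {n : ℕ}

/-- Symplectic transformations of an arbitrary unimodular alternating matrix have determinant one. -/
theorem det_eq_one_of_alt {P G : Matrix (Fin n) (Fin n) R} (hsk : Pᵀ = -P) (hdiag : ∀ i, P i i = 0)
    (hP : IsUnit P.det) (hG : Gᵀ * P * G = P) : G.det = 1 := by
  let U : Matrix (Fin n) (Fin n) R := Matrix.of fun i j => if i < j then P i j else 0
  have hU : P + Uᵀ - U = 0 := by
    ext i j
    simp only [Matrix.sub_apply, Matrix.add_apply, Matrix.transpose_apply, U, Matrix.of_apply, Matrix.zero_apply]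
    rcases lt_trichotomy i j with h | h | h
    · rw [if_neg (not_lt.2 h.le), if_pos h]; ring
    · subst h; simp [hdiag]
    · rw [if_pos h, if_neg (not_lt.2 h.le)]
      have := congrFun (congrFun hsk i) j
      rw [Matrix.transpose_apply, Matrix.neg_apply] at this
      rw [this]; ring
  set Z := -(P⁻¹ * U)
  set S := -P⁻¹
  have hPZ : P * Z = -U := by rw [Matrix.mul_neg, Matrix.mul_nonsing_inv_cancel_left _ _ hP]
  have hZP : Zᵀ * P = Uᵀ := by
    have h1 := congrArg Matrix.transpose hPZ
    rw [Matrix.transpose_mul, hsk, Matrix.mul_neg, Matrix.transpose_neg U] at h1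
    exact neg_inj.1 h1
  have hPS : P * S = -1 := by rw [Matrix.mul_neg, Matrix.mul_nonsing_inv _ hP]
  have hSP : Sᵀ * P = 1 := by
    have h1 := congrArg Matrix.transpose hPS
    rw [Matrix.transpose_mul, hsk, Matrix.mul_neg, Matrix.transpose_neg (1 : Matrix (Fin n) (Fin n) R), Matrix.transpose_one] at h1
    exact neg_inj.1 h1
  let T : Matrix (Fin n ⊕ Fin n) (Fin n ⊕ Fin n) R := fromBlocks 1 ((1 + Z) * S) 1 (Z * S)
  let Ω : Matrix (Fin n ⊕ Fin n) (Fin n ⊕ Fin n) R := fromBlocks P 0 0 (-P)
  let H : Matrix (Fin n ⊕ Fin n) (Fin n ⊕ Fin n) R := fromBlocks G 0 0 1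
  have hT : IsUnit T.det := by
    rw [Matrix.det_fromBlocks_one₁₁, one_mul, show Z * S - (1 + Z) * S = P⁻¹ by simp [add_mul, S]]
    exact Matrix.isUnit_nonsing_inv_det _ hP
  have hTJ : Tᵀ * Ω * T = Matrix.J (Fin n) R := by
    simp only [T, Ω, Matrix.J, fromBlocks_transpose, fromBlocks_multiply, Matrix.transpose_one, one_mul,
      Matrix.mul_one, mul_zero, add_zero, zero_add, Matrix.transpose_mul, Matrix.transpose_add]
    congr 1
    · exact add_neg_cancel P
    · rw [← hPS]; simp only [Matrix.neg_mul, ← Matrix.mul_assoc, Matrix.mul_add, Matrix.mul_one, Matrix.add_mul]; abel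
    · refine Eq.trans ?_ hSP; simp only [Matrix.mul_neg, Matrix.neg_mul, Matrix.mul_assoc, Matrix.mul_add, Matrix.add_mul, Matrix.one_mul]; abel
    · have h1 : (1 + Zᵀ) * P * (1 + Z) + Zᵀ * (-P) * Z = 0 := by
        rw [← hU]
        calc (1 + Zᵀ) * P * (1 + Z) + Zᵀ * (-P) * Z = P + Zᵀ * P + P * Z := by
              simp only [Matrix.add_mul, Matrix.mul_add, Matrix.one_mul, Matrix.mul_one, Matrix.neg_mul, Matrix.mul_neg]
              abel
          _ = _ := by rw [hPZ, hZP]; abel
      calc _ = Sᵀ * ((1 + Zᵀ) * P * (1 + Z) + Zᵀ * (-P) * Z) * S := by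
            simp only [Matrix.mul_add, Matrix.add_mul, Matrix.mul_assoc]
        _ = 0 := by rw [h1]; simp
  have hH : Hᵀ * Ω * H = Ω := by
    simp only [H, Ω, fromBlocks_transpose, fromBlocks_multiply, Matrix.transpose_one, Matrix.transpose_zero, one_mul,
      Matrix.mul_one, mul_zero, zero_mul, add_zero, zero_add, hG]
  set M := T⁻¹ * H * T
  have hM : M ∈ Matrix.symplecticGroup (Fin n) R := by
    rw [SymplecticGroup.mem_iff', ← hTJ]
    have hTM : T * M = H * T := by
      rw [show M = T⁻¹ * (H * T) from Matrix.mul_assoc _ _ _, Matrix.mul_nonsing_inv_cancel_left _ _ hT]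
    calc Mᵀ * (Tᵀ * Ω * T) * M = (T * M)ᵀ * Ω * (T * M) := by
          simp only [Matrix.transpose_mul, Matrix.mul_assoc]
      _ = Tᵀ * (Hᵀ * Ω * H) * T := by rw [hTM]; simp only [Matrix.transpose_mul, Matrix.mul_assoc]
      _ = _ := by rw [hH]
  have hdet := SymplecticGroup.det_eq_one hM
  rw [show M = T⁻¹ * H * T from rfl, Matrix.det_conj' ((Matrix.isUnit_iff_isUnit_det _).2 hT)] at hdet
  simpa [H] using hdet

end Alt

section Sym

variable {R : Type u} [CommRing R] {n : ℕ}

theorem det_eq_zero_of_symm_two (h2 : (2 : R) = 0) (hn : Odd n) (S : Matrix (Fin n) (Fin n) R)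
    (hS : Sᵀ = S) (hd : ∀ i, S i i = 0) : S.det = 0 := by
  rw [Matrix.det_apply']
  have hsym : ∀ i j, S j i = S i j := fun i j => congrFun (congrFun hS i) j
  refine Finset.sum_involution (fun σ _ => σ⁻¹) ?_ ?_ (fun _ _ => Finset.mem_univ _) (fun σ _ => inv_inv σ)
  · intro σ _
    have e : ∏ i, S (σ⁻¹ i) i = ∏ i, S (σ i) i := by
      rw [← Equiv.prod_comp σ (fun i => S (σ⁻¹ i) i)]
      exact Finset.prod_congr rfl fun i _ => by simp [hsym]
    rw [Equiv.Perm.sign_inv, e, ← two_mul, h2, zero_mul]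
  · intro σ _ hne hinv
    apply hne
    haveI : Fact (Nat.Prime 2) := ⟨Nat.prime_two⟩
    obtain ⟨i, hi⟩ := Equiv.Perm.exists_fixed_point_of_prime (p := 2) (n := 1)
      (by rw [Fintype.card_fin]; exact hn.not_two_dvd_nat) (σ := σ) (by
        rw [pow_one, pow_two]
        nth_rewrite 1 [← hinv]
        exact inv_mul_cancel σ)
    rw [Finset.prod_eq_zero (Finset.mem_univ i) (by rw [hi, hd]), mul_zero]

theorem two_mul_halfDiscUniv {n : ℕ} (hn : Odd n) : 2 * QuadGrp.halfDiscUniv n = QuadGrp.discUniv n := by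
  let f : MvPolynomial (Sym2 (Fin n)) ℤ →+* MvPolynomial (Sym2 (Fin n)) (ZMod 2) :=
    MvPolynomial.map (Int.castRingHom (ZMod 2))
  have h0 : f (QuadGrp.discUniv n) = 0 := by
    have h2 : (2 : MvPolynomial (Sym2 (Fin n)) (ZMod 2)) = 0 := by
      rw [← map_ofNat MvPolynomial.C 2, show (2 : ZMod 2) = 0 from rfl, map_zero]
    rw [QuadGrp.discUniv, RingHom.map_det]
    refine det_eq_zero_of_symm_two h2 hn _ (Matrix.ext fun i j => ?_) fun i => ?_
    · simp only [Matrix.transpose_apply, RingHom.mapMatrix_apply, Matrix.map_apply, QuadGrp.univPolarMat,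
        Matrix.of_apply, eq_comm (a := j), Sym2.eq_swap (a := j)]
    · simp only [RingHom.mapMatrix_apply, Matrix.map_apply, QuadGrp.univPolarMat, Matrix.of_apply, map_mul,
        map_ofNat, h2, zero_mul, ↓reduceIte]
  ext s
  rw [← map_ofNat MvPolynomial.C 2, MvPolynomial.coeff_C_mul, QuadGrp.coeff_halfDiscUniv]
  refine Int.mul_ediv_cancel' ?_
  have h1 := congrArg (MvPolynomial.coeff s) h0
  rw [MvPolynomial.coeff_map, MvPolynomial.coeff_zero] at h1
  exact (ZMod.intCast_zmod_eq_zero_iff_dvd _ 2).1 h1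

/-- Coefficients of the quadratic form of a (non-symmetric) bilinear form. -/
def cf (β : Matrix (Fin n) (Fin n) R) : Sym2 (Fin n) → R :=
  Sym2.lift ⟨fun i j => if i = j then β i i else β i j + β j i, fun i j => by
    by_cases h : i = j
    · subst h; rfl
    · dsimp only
      rw [if_neg h, if_neg (Ne.symm h), add_comm]⟩

theorem cf_mk (β : Matrix (Fin n) (Fin n) R) (i j : Fin n) :
    cf β (Sym2.mk i j) = if i = j then β i i else β i j + β j i := rfl

theorem cf_map {S : Type v} [CommRing S] (f : R →+* S) (β : Matrix (Fin n) (Fin n) R) :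
    cf (β.map f) = fun z => f (cf β z) := by
  funext z
  induction z using Sym2.inductionOn with
  | hf i j => rw [cf_mk, cf_mk]; split_ifs <;> simp

/-- The half-discriminant as a function of a bilinear lift. -/
def hd (β : Matrix (Fin n) (Fin n) R) : R :=
  MvPolynomial.eval₂ (Int.castRingHom R) (cf β) (QuadGrp.halfDiscUniv n)

theorem hd_map {S : Type v} [CommRing S] (f : R →+* S) (β : Matrix (Fin n) (Fin n) R) :
    hd (β.map f) = f (hd β) := by
  rw [hd, hd, cf_map, MvPolynomial.eval₂_comp_left f, Subsingleton.elim (f.comp (Int.castRingHom R)) (Int.castRingHom S)]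
  rfl

theorem two_mul_hd (hn : Odd n) (β : Matrix (Fin n) (Fin n) R) : 2 * hd β = (β + βᵀ).det := by
  have h := congrArg (MvPolynomial.eval₂Hom (Int.castRingHom R) (cf β)) (two_mul_halfDiscUniv hn)
  rw [map_mul, map_ofNat, QuadGrp.discUniv, RingHom.map_det] at h
  rw [show hd β = MvPolynomial.eval₂Hom (Int.castRingHom R) (cf β) (QuadGrp.halfDiscUniv n) from rfl, h]
  congr 1
  ext i j
  simp only [RingHom.mapMatrix_apply, Matrix.map_apply, QuadGrp.univPolarMat, Matrix.of_apply, Matrix.add_apply,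
    Matrix.transpose_apply]
  rcases eq_or_ne i j with rfl | hij
  · simp [cf_mk, two_mul]
  · simp [cf_mk, hij]

theorem hd_conj (hn : Odd n) (β G : Matrix (Fin n) (Fin n) R) : hd (Gᵀ * β * G) = G.det ^ 2 * hd β := by
  let U := MvPolynomial ((Fin n × Fin n) ⊕ (Fin n × Fin n)) ℤ
  let bU : Matrix (Fin n) (Fin n) U := Matrix.of fun i j => MvPolynomial.X (Sum.inl (i, j))
  let gU : Matrix (Fin n) (Fin n) U := Matrix.of fun i j => MvPolynomial.X (Sum.inr (i, j))
  have key : hd (gUᵀ * bU * gU) = gU.det ^ 2 * hd bU := by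
    apply mul_left_cancel₀ (show (2 : U) ≠ 0 by exact two_ne_zero)
    rw [two_mul_hd hn, show (2 : U) * (gU.det ^ 2 * hd bU) = gU.det ^ 2 * (2 * hd bU) by ring, two_mul_hd hn,
      show gUᵀ * bU * gU + (gUᵀ * bU * gU)ᵀ = gUᵀ * (bU + bUᵀ) * gU by
        simp [Matrix.transpose_mul, Matrix.mul_add, Matrix.add_mul, Matrix.mul_assoc],
      Matrix.det_mul, Matrix.det_mul, Matrix.det_transpose]
    ring
  let f : U →+* R := MvPolynomial.eval₂Hom (Int.castRingHom R) (Sum.elim (fun x => β x.1 x.2) fun x => G x.1 x.2)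
  have hb : bU.map f = β := by ext i j; exact MvPolynomial.eval₂Hom_X' _ _ _
  have hg : gU.map f = G := by ext i j; exact MvPolynomial.eval₂Hom_X' _ _ _
  have h := congrArg f key
  rw [← hd_map, map_mul, map_pow, ← hd_map, RingHom.map_det, RingHom.mapMatrix_apply, hg, hb, Matrix.map_mul,
    Matrix.map_mul, hb, hg, Matrix.transpose_map, hg] at h
  exact h

variable {M : Type v} [AddCommGroup M] [Module R M]

theorem halfDisc_eq_hd (b : Module.Basis (Fin n) R M) (Q : QuadraticForm R M) (B : LinearMap.BilinForm R M)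
    (hB : B.toQuadraticMap = Q) :
    QuadGrp.halfDisc b (LinearEquiv.refl R R) Q = hd (LinearMap.BilinForm.toMatrix b B) := by
  rw [QuadGrp.halfDisc, hd]
  congr 1
  funext z
  induction z using Sym2.inductionOn with
  | hf i j =>
    rw [QuadGrp.coeffs_mk, cf_mk, LinearMap.BilinForm.toMatrix_apply, LinearMap.BilinForm.toMatrix_apply,
      LinearMap.BilinForm.toMatrix_apply]
    subst hB
    simp only [LinearEquiv.refl_apply, LinearMap.BilinMap.toQuadraticMap_apply,
      LinearMap.BilinMap.polar_toQuadraticMap]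

theorem halfDisc_comp (b : Module.Basis (Fin n) R M) (hn : Odd n) (Q : QuadraticForm R M) (g : M →ₗ[R] M) :
    QuadGrp.halfDisc b (LinearEquiv.refl R R) (Q.comp g) =
      LinearMap.det g ^ 2 * QuadGrp.halfDisc b (LinearEquiv.refl R R) Q := by
  have := Module.Free.of_basis b
  obtain ⟨B, hB⟩ := LinearMap.BilinMap.toQuadraticMap_surjective Q
  rw [halfDisc_eq_hd b Q B hB, halfDisc_eq_hd b (Q.comp g) (LinearMap.BilinForm.comp B g g) (by
    ext x
    rw [← hB]
    rfl), LinearMap.BilinForm.toMatrix_comp b b, hd_conj hn, LinearMap.det_toMatrix]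

theorem det_isometry_of_charTwo [CharP R 2] (b : Module.Basis (Fin n) R M) (Q : QuadraticForm R M)
    (hQ : QuadGrp.IsRegular Q) {g : M ≃ₗ[R] M} (hg : g ∈ QuadGrp.O Q) : LinearEquiv.det g = 1 := by
  set B : LinearMap.BilinForm R M := Q.polarBilin
  set P := LinearMap.BilinForm.toMatrix b B
  have hsymm : Pᵀ = P := by
    ext i j
    simp only [P, Matrix.transpose_apply, LinearMap.BilinForm.toMatrix_apply]
    exact QuadraticMap.polar_comm Q _ _
  have hdiag : ∀ i, P i i = 0 := fun i => by
    change LinearMap.BilinForm.toMatrix b B i i = 0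
    rw [LinearMap.BilinForm.toMatrix_apply]
    change QuadraticMap.polar Q (b i) (b i) = 0
    rw [QuadraticMap.polar_self, two_nsmul, CharTwo.add_self_eq_zero]
  have hP : IsUnit P.det := by
    rw [← Matrix.isUnit_iff_isUnit_det]
    let e : M ≃ₗ[R] Module.Dual R M := LinearEquiv.ofBijective Q.polarBilin hQ
    have he : P = (LinearMap.toMatrix b b.dualBasis e.toLinearMap)ᵀ := by
      ext i j
      rw [Matrix.transpose_apply, LinearMap.toMatrix_apply, Module.Basis.dualBasis_repr]
      change LinearMap.BilinForm.toMatrix b B i j = _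
      rw [LinearMap.BilinForm.toMatrix_apply]
      rfl
    rw [he, Matrix.isUnit_transpose, Matrix.isUnit_iff_isUnit_det]
    exact LinearEquiv.isUnit_det e b b.dualBasis
  have hiso : LinearMap.BilinForm.comp B g.toLinearMap g.toLinearMap = B :=
    LinearMap.ext fun x => LinearMap.ext fun y => by
      change QuadraticMap.polar Q (g x) (g y) = QuadraticMap.polar Q x y
      simp only [QuadraticMap.polar, ← map_add, hg _]
  have hG := congrArg (LinearMap.BilinForm.toMatrix b) hiso
  rw [LinearMap.BilinForm.toMatrix_comp b b] at hG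
  have h1 := det_eq_one_of_alt (hsymm.trans (by ext i j; simp [CharTwo.neg_eq])) hdiag hP hG
  ext
  rw [LinearEquiv.coe_det, Units.val_one, ← LinearMap.det_toMatrix b]
  exact h1

end Sym

end Groth.Misc12.Quad
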