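import Groth.Agent.Misc12.Quad.Lift
import Mathlib.LinearAlgebra.QuadraticForm.Radical
import Mathlib.RingTheory.LocalRing.ResidueField.Ideal

/-!
Non-degeneracy of odd-rank forms over fields and the half-discriminant.
-/

set_option autoImplicit false
set_option linter.unusedSectionVars false

noncomputable section

open Matrix
open scoped TensorProduct

universe u v

namespace Groth.Misc12.Quad

variable {n : ℕ}

theorem hd_eq_mul_of_row {A : Type u} [CommRing A] (hn : Odd n) (β : Matrix (Fin n) (Fin n) A) (i : Fin n)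
    (hi : ∀ k, k ≠ i → β i k = 0 ∧ β k i = 0) :
    hd β = β i i * ((β + βᵀ).updateRow i (Pi.single i 1)).det := by
  let U := MvPolynomial (Fin n × Fin n) ℤ
  let bU : Matrix (Fin n) (Fin n) U := Matrix.of fun a b =>
    if a ≠ b ∧ (a = i ∨ b = i) then 0 else MvPolynomial.X (a, b)
  set P := bU + bUᵀ
  have hrow : P i = (2 * bU i i) • Pi.single i (1 : U) := by
    funext k
    simp only [P, Pi.smul_apply, smul_eq_mul, Matrix.add_apply, Matrix.transpose_apply]
    rcases eq_or_ne k i with rfl | hk
    · rw [Pi.single_eq_same]; ring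
    · rw [Pi.single_eq_of_ne hk]
      simp [bU, hk, Ne.symm hk]
  have key : hd bU = bU i i * (P.updateRow i (Pi.single i 1)).det := by
    apply mul_left_cancel₀ (show (2 : U) ≠ 0 by exact two_ne_zero)
    rw [two_mul_hd hn, ← mul_assoc, ← Matrix.det_updateRow_smul, ← hrow, Matrix.updateRow_eq_self]
  let f : U →+* A := MvPolynomial.eval₂Hom (Int.castRingHom A) (fun x => β x.1 x.2)
  have hb : bU.map f = β := by
    ext a b
    rw [Matrix.map_apply]
    change f (if a ≠ b ∧ (a = i ∨ b = i) then 0 else MvPolynomial.X (a, b)) = _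
    split_ifs with h
    · rw [map_zero]
      obtain ⟨hab, rfl | rfl⟩ := h
      · exact (hi b (Ne.symm hab)).1.symm
      · exact (hi a hab).2.symm
    · exact MvPolynomial.eval₂Hom_X' _ _ _
  have e2 : (P.updateRow i (Pi.single i 1)).map f = (β + βᵀ).updateRow i (Pi.single i 1) := by
    ext a b
    rw [Matrix.map_apply]
    rcases eq_or_ne a i with rfl | ha
    · rw [Matrix.updateRow_self, Matrix.updateRow_self, Pi.single_apply, Pi.single_apply, apply_ite f, map_one, map_zero]
    · rw [Matrix.updateRow_ne ha, Matrix.updateRow_ne ha]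
      change f (bU a b + bU b a) = β a b + β b a
      rw [map_add, show f (bU a b) = β a b from congrFun (congrFun hb a) b,
        show f (bU b a) = β b a from congrFun (congrFun hb b) a]
  rw [← hb, hd_map, key, map_mul, RingHom.map_det, RingHom.mapMatrix_apply, e2, hb,
    show f (bU i i) = β i i from congrFun (congrFun hb i) i]

variable {K : Type u} [Field K]

theorem exists_second_of_hd_eq_zero (hn : Odd n) {γ : Matrix (Fin n) (Fin n) K} (hγ : hd γ = 0) {r : Fin n → K}
    (hr : (γ + γᵀ) *ᵥ r = 0) {i : Fin n} (hi : r i = 1) (hq : r ⬝ᵥ γ *ᵥ r ≠ 0) :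
    ∃ s, (γ + γᵀ) *ᵥ s = 0 ∧ s i = 0 ∧ s ≠ 0 := by
  set N : Matrix (Fin n) (Fin n) K := Matrix.of fun a b => if b = i then r a - (Pi.single i (1 : K) : Fin n → K) a else 0
  set G := 1 + N
  have hN : N * N = 0 := by
    ext a b
    rw [Matrix.mul_apply, Matrix.zero_apply]
    refine Finset.sum_eq_zero fun c _ => ?_
    simp only [N, Matrix.of_apply]
    split_ifs with h1 h2 <;> simp_all
  have hGu : IsUnit G := ⟨⟨G, 1 - N, by simp [G, mul_sub, add_mul, hN], by simp [G, sub_mul, mul_add, hN]⟩, rfl⟩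
  have hGe : G *ᵥ Pi.single i 1 = r := by
    funext a
    simp [G, N, Matrix.mulVec_single, Matrix.one_apply, Pi.single_apply]
  set γ' := Gᵀ * γ * G
  set β := upper (cf γ')
  have h1 : γ' + γ'ᵀ = Gᵀ * (γ + γᵀ) * G := by
    simp [γ', Matrix.transpose_mul, Matrix.mul_add, Matrix.add_mul, Matrix.mul_assoc]
  have hsym : β + βᵀ = γ' + γ'ᵀ := symm_eq_of_cf (cf_upper _)
  have hcol : ∀ k, γ' k i + γ' i k = 0 := by
    intro k
    have h2 : (γ' + γ'ᵀ) *ᵥ Pi.single i 1 = 0 := by
      rw [h1, ← Matrix.mulVec_mulVec, hGe, ← Matrix.mulVec_mulVec, hr, Matrix.mulVec_zero]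
    simpa [Matrix.mulVec_single] using congrFun h2 k
  have hβi : ∀ k, k ≠ i → β i k = 0 ∧ β k i = 0 := by
    intro k hk
    simp only [β, upper, Matrix.of_apply, cf_mk, if_neg hk, if_neg (Ne.symm hk)]
    rw [hcol k, add_comm (γ' i k), hcol k]
    simp
  have hβii : β i i = r ⬝ᵥ γ *ᵥ r := by
    have e : γ' i i = r ⬝ᵥ γ *ᵥ r := by
      rw [show γ' i i = Pi.single i 1 ⬝ᵥ γ' *ᵥ Pi.single i 1 by simp [Matrix.mulVec_single],
        show γ' = Gᵀ * γ * G from rfl, ← Matrix.mulVec_mulVec, hGe, ← Matrix.mulVec_mulVec, Matrix.dotProduct_mulVec,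
        Matrix.vecMul_transpose, hGe]
    simp [β, upper, cf_mk, e]
  have h3 : hd β = 0 := by
    rw [hd_eq_of_cf (cf_upper (cf γ')), hd_conj hn, hγ, mul_zero]
  rw [hd_eq_mul_of_row hn β i hβi, hβii] at h3
  obtain ⟨v, hv0, hv⟩ := Matrix.exists_mulVec_eq_zero_iff.2 ((mul_eq_zero.1 h3).resolve_left hq)
  have hvi : v i = 0 := by
    have := congrFun hv i
    rwa [Matrix.mulVec, Matrix.updateRow_self, single_dotProduct, one_mul] at this
  have hβv : (β + βᵀ) *ᵥ v = 0 := by
    funext a
    rcases eq_or_ne a i with rfl | ha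
    · rw [Pi.zero_apply, Matrix.mulVec, dotProduct]
      refine Finset.sum_eq_zero fun k _ => ?_
      rcases eq_or_ne k a with rfl | hk
      · simp [hvi]
      · simp [(hβi k hk).1, (hβi k hk).2]
    · have := congrFun hv a
      rwa [Matrix.mulVec, Matrix.updateRow_ne ha] at this
  refine ⟨G *ᵥ v, ?_, ?_, ?_⟩
  · rw [hsym, h1, ← Matrix.mulVec_mulVec, ← Matrix.mulVec_mulVec] at hβv
    exact Matrix.mulVec_injective_iff_isUnit.2 ((Matrix.isUnit_transpose G).2 hGu) (hβv.trans (Matrix.mulVec_zero _).symm)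
  · simp [G, N, Matrix.mulVec, dotProduct, Pi.single_apply, hi, Matrix.one_apply, hvi]
  · intro h
    exact hv0 (Matrix.mulVec_injective_iff_isUnit.2 hGu (h.trans (Matrix.mulVec_zero _).symm))

variable {V : Type v} [AddCommGroup V] [Module K V]

theorem hd_ne_zero_iff_nondegenerate (hn : Odd n) (b : Module.Basis (Fin n) K V) (P : QuadraticForm K V)
    (B : LinearMap.BilinForm K V) (hB : B.toQuadraticMap = P) :
    hd (LinearMap.BilinForm.toMatrix b B) ≠ 0 ↔ QuadraticMap.Nondegenerate (Q := P) := by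
  subst hB
  set γ := LinearMap.BilinForm.toMatrix b B
  have hval : ∀ x, B.toQuadraticMap x = b.equivFun x ⬝ᵥ γ *ᵥ b.equivFun x := fun x => by
    rw [LinearMap.BilinMap.toQuadraticMap_apply]
    exact LinearMap.BilinForm.apply_eq_dotProduct_toMatrix_mulVec b B x x
  have hker : ∀ x, B.toQuadraticMap.polarBilin x = 0 ↔ (γ + γᵀ) *ᵥ b.equivFun x = 0 := by
    intro x
    have hpol : ∀ y, B.toQuadraticMap.polarBilin x y = b.equivFun y ⬝ᵥ (γ + γᵀ) *ᵥ b.equivFun x := by
      intro y
      change QuadraticMap.polar B.toQuadraticMap x y = _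
      rw [LinearMap.BilinMap.polar_toQuadraticMap, Matrix.add_mulVec, dotProduct_add,
        Matrix.mulVec_transpose, dotProduct_comm _ (_ ᵥ* _), ← Matrix.dotProduct_mulVec]
      refine (congrArg₂ (· + ·) (LinearMap.BilinForm.apply_eq_dotProduct_toMatrix_mulVec b B x y)
        (LinearMap.BilinForm.apply_eq_dotProduct_toMatrix_mulVec b B y x)).trans ?_
      exact add_comm _ _
    constructor
    · intro h
      funext a
      have := hpol (b a)
      rw [h, LinearMap.zero_apply, show b.equivFun (b a) = Pi.single a 1 by funext c; simp [Pi.single_apply, eq_comm],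
        single_dotProduct, one_mul] at this
      exact this.symm
    · intro h
      ext y
      rw [hpol, h, dotProduct_zero, LinearMap.zero_apply]
  constructor
  · intro hγ
    constructor
    · rw [Submodule.eq_bot_iff]
      rintro x ⟨hx, hxp⟩
      by_contra hx0
      have hk := (hker x).1 hxp
      obtain ⟨i, hi⟩ := Function.ne_iff.1 (b.equivFun.map_ne_zero_iff.2 hx0)
      refine ker_value_ne hn hγ (r := (b.equivFun x i)⁻¹ • b.equivFun x) (by rw [Matrix.mulVec_smul, hk, smul_zero])
        (i := i) (inv_mul_cancel₀ hi) ?_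
      rw [Matrix.mulVec_smul, dotProduct_smul, smul_dotProduct, ← hval, hx, smul_zero, smul_zero]
    · have : Module.Finite K V := Module.Finite.of_basis b
      rw [← Module.finrank_eq_rank, Nat.cast_le_one]
      by_cases h2 : (2 : K) = 0
      · by_cases hz : B.toQuadraticMap.polarBilin.ker = ⊥
        · rw [hz, finrank_bot]; exact zero_le_one
        obtain ⟨x, hx, hx0⟩ := Submodule.exists_mem_ne_zero_of_ne_bot hz
        have hxk := (hker x).1 (LinearMap.mem_ker.1 hx)
        obtain ⟨i, hi⟩ := Function.ne_iff.1 (b.equivFun.map_ne_zero_iff.2 hx0)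
        refine finrank_le_one (⟨x, hx⟩ : B.toQuadraticMap.polarBilin.ker) fun y => ?_
        refine ⟨b.equivFun y.1 i * (b.equivFun x i)⁻¹, Subtype.ext (b.equivFun.injective ?_)⟩
        have := ker_unique hn h2 hγ (r := (b.equivFun x i)⁻¹ • b.equivFun x) (by rw [Matrix.mulVec_smul, hxk, smul_zero])
          ((hker y.1).1 (LinearMap.mem_ker.1 y.2)) (i := i) (inv_mul_cancel₀ hi)
        rw [smul_smul] at this
        rw [Submodule.coe_smul, map_smul]
        exact this.symm
      · have hdet : (γ + γᵀ).det ≠ 0 := by rw [← two_mul_hd hn]; exact mul_ne_zero h2 hγ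
        have hbot : B.toQuadraticMap.polarBilin.ker = ⊥ := by
          rw [Submodule.eq_bot_iff]
          intro x hx
          exact b.equivFun.map_eq_zero_iff.1 (Matrix.eq_zero_of_mulVec_eq_zero hdet ((hker x).1 (LinearMap.mem_ker.1 hx)))
        rw [hbot, finrank_bot]; exact zero_le_one
  · rintro ⟨hrad, hrank⟩ hγ
    have hdet : (γ + γᵀ).det = 0 := by rw [← two_mul_hd hn, hγ, mul_zero]
    obtain ⟨v, hv0, hv⟩ := Matrix.exists_mulVec_eq_zero_iff.2 hdet
    obtain ⟨i, hi⟩ := Function.ne_iff.1 hv0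
    set r := (v i)⁻¹ • v
    have hri : r i = 1 := inv_mul_cancel₀ hi
    have hr : (γ + γᵀ) *ᵥ r = 0 := by rw [Matrix.mulVec_smul, hv, smul_zero]
    have hxk : B.toQuadraticMap.polarBilin (b.equivFun.symm r) = 0 := (hker _).2 (by rwa [LinearEquiv.apply_symm_apply])
    have hq : r ⬝ᵥ γ *ᵥ r ≠ 0 := by
      intro h0
      have : b.equivFun.symm r ∈ QuadraticMap.radical B.toQuadraticMap := ⟨by rw [hval, LinearEquiv.apply_symm_apply, h0], hxk⟩
      rw [hrad, Submodule.mem_bot, LinearEquiv.map_eq_zero_iff] at this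
      rw [this] at hri
      exact zero_ne_one hri
    obtain ⟨s, hs, hsi, hs0⟩ := exists_second_of_hd_eq_zero hn hγ hr hri hq
    have : Module.Finite K V := Module.Finite.of_basis b
    rw [← Module.finrank_eq_rank, Nat.cast_le_one] at hrank
    have hr0 : (⟨b.equivFun.symm r, LinearMap.mem_ker.2 hxk⟩ : B.toQuadraticMap.polarBilin.ker) ≠ 0 := by
      intro h
      have := congrArg Subtype.val h
      rw [Submodule.coe_zero, LinearEquiv.map_eq_zero_iff] at this
      rw [this] at hri
      exact zero_ne_one hri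
    have hone : Module.finrank K B.toQuadraticMap.polarBilin.ker = 1 :=
      le_antisymm hrank (Module.finrank_pos_iff_exists_ne_zero.2 ⟨_, hr0⟩)
    obtain ⟨c, hc⟩ := (finrank_eq_one_iff_of_nonzero' _ hr0).1 hone
      ⟨b.equivFun.symm s, LinearMap.mem_ker.2 ((hker _).2 (by rwa [LinearEquiv.apply_symm_apply]))⟩
    have hc' := congrArg (fun y : B.toQuadraticMap.polarBilin.ker => b.equivFun y.1) hc
    simp only [Submodule.coe_smul, map_smul, LinearEquiv.apply_symm_apply] at hc'
    have hci := congrFun hc' i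
    rw [Pi.smul_apply, hri, hsi, smul_eq_mul, mul_one] at hci
    exact hs0 (by rw [← hc', hci, zero_smul])

theorem isUnit_halfDisc_iff {R : Type u} [CommRing R] {M : Type v} [AddCommGroup M] [Module R M] [Module.Free R M]
    (hn : Odd n) (b : Module.Basis (Fin n) R M) (Q : QuadraticForm R M) :
    IsUnit (QuadGrp.halfDisc b (LinearEquiv.refl R R) Q) ↔
      ∀ (p : Ideal R) [p.IsPrime], QuadraticMap.Nondegenerate (Q := QuadGrp.baseChangeForm p.ResidueField Q) := by
  set B₀ : LinearMap.BilinForm R M := QuadGrp.bilinLift Q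
  rw [halfDisc_eq_hd b Q B₀ (QuadGrp.bilinLift_spec Q)]
  set γ := LinearMap.BilinForm.toMatrix b B₀
  have key : ∀ (p : Ideal R) [p.IsPrime],
      QuadraticMap.Nondegenerate (Q := QuadGrp.baseChangeForm p.ResidueField Q) ↔ hd γ ∉ p := by
    intro p _
    let B : LinearMap.BilinForm p.ResidueField (p.ResidueField ⊗[R] M) :=
      (LinearMap.BilinMap.baseChange p.ResidueField B₀).compr₂ (TensorProduct.AlgebraTensorModule.rid R p.ResidueField p.ResidueField).toLinearMap
    have hB : B.toQuadraticMap = QuadGrp.baseChangeForm p.ResidueField Q := QuadraticMap.ext fun x => rfl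
    have hm : LinearMap.BilinForm.toMatrix (Algebra.TensorProduct.basis p.ResidueField b) B
        = γ.map (algebraMap R p.ResidueField) := by
      ext i j
      rw [LinearMap.BilinForm.toMatrix_apply, Matrix.map_apply,
        show γ i j = B₀ (b i) (b j) from LinearMap.BilinForm.toMatrix_apply _ _ _ _,
        Algebra.TensorProduct.basis_apply, Algebra.TensorProduct.basis_apply]
      change (TensorProduct.AlgebraTensorModule.rid R p.ResidueField p.ResidueField)
        ((LinearMap.BilinMap.baseChange p.ResidueField B₀) ((1 : p.ResidueField) ⊗ₜ[R] b i) ((1 : p.ResidueField) ⊗ₜ[R] b j)) = _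
      rw [LinearMap.BilinMap.baseChange_tmul, one_mul, TensorProduct.AlgebraTensorModule.rid_tmul,
        ← Algebra.algebraMap_eq_smul_one]
    rw [← hd_ne_zero_iff_nondegenerate hn _ _ B hB, hm, hd_map, Ne, Ideal.algebraMap_residueField_eq_zero]
  constructor
  · intro h p hp
    exact (key p).2 fun hmem => hp.ne_top (Ideal.eq_top_of_isUnit_mem _ hmem h)
  · intro h
    by_contra hu
    obtain ⟨m, hm, hle⟩ := exists_max_ideal_of_mem_nonunits hu
    exact (key m).1 (h m) hle

end Groth.Misc12.Quad
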