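import Groth.Prelude.Def_QuadGrp2
import Groth.Agent.Misc12.Quad.Center
import Groth.Agent.Misc12.Quad.Det
import Groth.Agent.Misc12.Quad.AffinePoints
import Mathlib.AlgebraicGeometry.Morphisms.Smooth
import Mathlib.LinearAlgebra.Matrix.ToLinearEquiv

/-!
Coordinate rings of orthogonal groups and the infinitesimal criterion of smoothness for schemes representing them.
-/

set_option autoImplicit false
set_option linter.unusedSectionVars false

noncomputable section

open CategoryTheory AlgebraicGeometry Matrix MonObj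
open scoped TensorProduct

universe u

namespace Groth.Misc12.Quad

variable {R : Type u} [CommRing R] {n : ℕ}

/-- `G` is an isometry matrix for the form with bilinear lift `β` (of determinant one if `s`). -/
def OK (β : Matrix (Fin n) (Fin n) R) (s : Bool) (A : Type u) [CommRing A] [Algebra R A]
    (G : Matrix (Fin n) (Fin n) A) : Prop :=
  IsUnit G.det ∧ cf (Gᵀ * β.map (algebraMap R A) * G) = cf (β.map (algebraMap R A)) ∧ (s = true → G.det = 1)

section Coord

variable (β : Matrix (Fin n) (Fin n) R) (s : Bool)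

abbrev Pol (R : Type u) [CommRing R] (n : ℕ) : Type u := MvPolynomial (Option (Fin n × Fin n)) R

def genMat : Matrix (Fin n) (Fin n) (Pol R n) := Matrix.of fun i j => MvPolynomial.X (some (i, j))

/-- The relations of the orthogonal group. -/
def rels : Option (Sym2 (Fin n)) ⊕ Unit → Pol R n :=
  Sum.elim (fun o => o.elim ((genMat (R := R) (n := n)).det * MvPolynomial.X none - 1)
      (fun z => cf ((genMat (R := R) (n := n))ᵀ * β.map (algebraMap R (Pol R n)) * genMat) z
        - cf (β.map (algebraMap R (Pol R n))) z))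
    (fun _ => if s then (genMat (R := R) (n := n)).det - 1 else 0)

theorem rels_none : rels β s (Sum.inl none) = (genMat (R := R) (n := n)).det * MvPolynomial.X none - 1 := rfl

theorem rels_some (z : Sym2 (Fin n)) : rels β s (Sum.inl (some z)) =
    cf ((genMat (R := R) (n := n))ᵀ * β.map (algebraMap R (Pol R n)) * genMat) z
      - cf (β.map (algebraMap R (Pol R n))) z := rfl

theorem rels_det : rels β s (Sum.inr ()) = if s then (genMat (R := R) (n := n)).det - 1 else 0 := rfl

abbrev Coord : Type u := Pol R n ⧸ Ideal.span (Set.range (rels β s))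

instance : Algebra.FinitePresentation R (Coord β s) :=
  Algebra.FinitePresentation.quotient (Submodule.fg_span (Set.finite_range _))

def univMat : Matrix (Fin n) (Fin n) (Coord β s) :=
  (genMat (R := R) (n := n)).map (Ideal.Quotient.mk (Ideal.span (Set.range (rels β s))))

theorem map_algebraMap {A B : Type u} [CommRing A] [CommRing B] [Algebra R A] [Algebra R B] (φ : A →ₐ[R] B) :
    (β.map (algebraMap R A)).map φ = β.map (algebraMap R B) := by
  ext i j; exact φ.commutes _

theorem OK.map {A B : Type u} [CommRing A] [CommRing B] [Algebra R A] [Algebra R B] {G : Matrix (Fin n) (Fin n) A}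
    (h : OK β s A G) (φ : A →ₐ[R] B) : OK β s B (G.map φ) := by
  have hdet : (G.map φ).det = φ G.det := (φ.toRingHom.map_det G).symm
  refine ⟨hdet ▸ h.1.map φ, ?_, fun hs => by rw [hdet, h.2.2 hs, map_one]⟩
  have e := congrArg (fun c => fun z => φ.toRingHom (c z)) h.2.1
  rw [← cf_map, ← cf_map, Matrix.map_mul, Matrix.map_mul, Matrix.transpose_map] at e
  rw [← map_algebraMap β φ]
  exact e

theorem univMat_ok : OK β s (Coord β s) (univMat β s) := by
  set q := Ideal.Quotient.mk (Ideal.span (Set.range (rels β s)))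
  have h0 : ∀ r, q (rels β s r) = 0 := fun r => Ideal.Quotient.eq_zero_iff_mem.2 (Ideal.subset_span ⟨r, rfl⟩)
  have hdet : (univMat β s).det = q (genMat (R := R) (n := n)).det := (q.map_det _).symm
  refine ⟨?_, ?_, ?_⟩
  · have h1 := h0 (Sum.inl none)
    rw [rels_none, map_sub, map_one, sub_eq_zero, map_mul, ← hdet] at h1
    exact IsUnit.of_mul_eq_one _ h1
  · funext z
    have h1 := h0 (Sum.inl (some z))
    rw [rels_some, map_sub, sub_eq_zero] at h1
    change (fun z => q (cf _ z)) z = (fun z => q (cf _ z)) z at h1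
    rw [← cf_map, ← cf_map, Matrix.map_mul, Matrix.map_mul, Matrix.transpose_map] at h1
    have e : (β.map (algebraMap R (Pol R n))).map q = β.map (algebraMap R (Coord β s)) :=
      map_algebraMap β (Ideal.Quotient.mkₐ R _)
    rw [e] at h1
    exact h1
  · intro hs
    have h1 := h0 (Sum.inr ())
    rw [rels_det, if_pos hs, map_sub, map_one, sub_eq_zero, ← hdet] at h1
    exact h1

theorem coord_ext {A : Type u} [CommRing A] [Algebra R A] {φ ψ : Coord β s →ₐ[R] A}
    (h : (univMat β s).map φ = (univMat β s).map ψ) : φ = ψ := by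
  refine Ideal.Quotient.algHom_ext _ (MvPolynomial.algHom_ext fun o => ?_)
  rcases o with _ | ⟨i, j⟩
  · set q := Ideal.Quotient.mk (Ideal.span (Set.range (rels β s)))
    change φ (q (MvPolynomial.X none)) = ψ (q (MvPolynomial.X none))
    have h1 : (univMat β s).det * q (MvPolynomial.X none) = 1 := by
      have h2 : q (rels β s (Sum.inl none)) = 0 := Ideal.Quotient.eq_zero_iff_mem.2 (Ideal.subset_span ⟨_, rfl⟩)
      rw [rels_none, map_sub, map_one, sub_eq_zero, map_mul] at h2
      rw [show (univMat β s).det = q (genMat (R := R) (n := n)).det from (q.map_det _).symm]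
      exact h2
    have hd : φ (univMat β s).det = ψ (univMat β s).det := by
      rw [show φ (univMat β s).det = ((univMat β s).map φ).det from φ.toRingHom.map_det _,
        show ψ (univMat β s).det = ((univMat β s).map ψ).det from ψ.toRingHom.map_det _, h]
    refine ((univMat_ok β s).1.map φ).mul_left_cancel ?_
    rw [← map_mul, h1, map_one, hd, ← map_mul, h1, map_one]
  · exact congrFun (congrFun h i) j

theorem exists_hom {A : Type u} [CommRing A] [Algebra R A] {G : Matrix (Fin n) (Fin n) A} (h : OK β s A G) :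
    ∃ φ : Coord β s →ₐ[R] A, (univMat β s).map φ = G := by
  let φ₀ : Pol R n →ₐ[R] A := MvPolynomial.aeval fun o => o.elim (↑(h.1.unit⁻¹) : A) fun x => G x.1 x.2
  have hG : (genMat (R := R) (n := n)).map φ₀ = G := by
    ext i j
    exact MvPolynomial.aeval_X _ _
  have hdet : φ₀ (genMat (R := R) (n := n)).det = G.det :=
    (φ₀.toRingHom.map_det _).trans (congrArg Matrix.det hG)
  refine ⟨Ideal.Quotient.liftₐ _ φ₀ ?_, ?_⟩
  · intro a ha
    rw [← RingHom.mem_ker]
    refine Ideal.span_le.2 ?_ ha
    rintro _ ⟨r, rfl⟩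
    rw [SetLike.mem_coe, RingHom.mem_ker]
    rcases r with (_ | z) | _
    · rw [rels_none, map_sub, map_one, map_mul, hdet, MvPolynomial.aeval_X,
        Option.elim_none, IsUnit.mul_val_inv, sub_self]
    · rw [rels_some, map_sub, sub_eq_zero]
      change (fun z => φ₀.toRingHom (cf _ z)) z = (fun z => φ₀.toRingHom (cf _ z)) z
      rw [← cf_map, ← cf_map, Matrix.map_mul, Matrix.map_mul, Matrix.transpose_map]
      rw [show (genMat (R := R) (n := n)).map φ₀.toRingHom = G from hG,
        show (β.map (algebraMap R (Pol R n))).map φ₀.toRingHom = β.map (algebraMap R A) from map_algebraMap β φ₀, h.2.1]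
    · rw [rels_det]
      split_ifs with hs
      · rw [map_sub, map_one, hdet, h.2.2 hs, sub_self]
      · rw [map_zero]
  · ext i j
    exact MvPolynomial.aeval_X _ _

/-- Formal smoothness of the coordinate ring is lifting of isometry matrices along square-zero ideals. -/
theorem formallySmooth_coord_iff :
    Algebra.FormallySmooth R (Coord β s) ↔ ∀ (A : Type u) [CommRing A] [Algebra R A] (I : Ideal A), I ^ 2 = ⊥ →
      ∀ Gb, OK β s (A ⧸ I) Gb → ∃ G, OK β s A G ∧ G.map (Ideal.Quotient.mk I) = Gb := by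
  rw [Algebra.FormallySmooth.iff_comp_surjective]
  constructor
  · intro h A _ _ I hI Gb hGb
    obtain ⟨φ, hφ⟩ := exists_hom β s hGb
    obtain ⟨ψ, hψ⟩ := h I hI φ
    exact ⟨_, (univMat_ok β s).map β s ψ, by rw [← hφ, ← hψ]; rfl⟩
  · intro h A _ _ I hI φ
    obtain ⟨G, hG, hGb⟩ := h A I hI _ ((univMat_ok β s).map β s φ)
    obtain ⟨ψ, hψ⟩ := exists_hom β s hG
    exact ⟨ψ, coord_ext β s (by rw [← hGb, ← hψ]; rfl)⟩

end Coord

/-! ### The matrix description of isometries -/

section Mat

variable (Q : QuadraticForm R (Fin n → R))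

/-- The matrix of the chosen bilinear lift. -/
def betaM : Matrix (Fin n) (Fin n) R := Matrix.of fun i j => beta Q i j

theorem quadForm_ext {A : Type u} [CommRing A] {M : Type u} [AddCommGroup M] [Module A M]
    (b : Module.Basis (Fin n) A M) {P P' : QuadraticForm A M} (h1 : ∀ i, P (b i) = P' (b i))
    (h2 : ∀ i j, QuadraticMap.polar P (b i) (b j) = QuadraticMap.polar P' (b i) (b j)) : P = P' := by
  have hp : P.polarBilin = P'.polarBilin := b.ext fun i => b.ext fun j => h2 i j
  ext x
  rw [← b.sum_repr x]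
  generalize (Finset.univ : Finset (Fin n)) = t
  classical
  induction t using Finset.induction_on with
  | empty => simp
  | insert i t hi ih =>
    rw [Finset.sum_insert hi, QuadraticMap.map_add (⇑P), QuadraticMap.map_add (⇑P'), QuadraticMap.map_smul,
      QuadraticMap.map_smul, h1, ih]
    congr 1
    exact LinearMap.congr_fun₂ hp _ _

theorem mem_O_iff_cf {A : Type u} [CommRing A] {M : Type u} [AddCommGroup M] [Module A M]
    (b : Module.Basis (Fin n) A M) (P : QuadraticForm A M) (B : LinearMap.BilinForm A M) (hB : B.toQuadraticMap = P)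
    (h : M ≃ₗ[A] M) :
    h ∈ QuadGrp.O P ↔ cf ((LinearMap.toMatrix b b h.toLinearMap)ᵀ * LinearMap.BilinForm.toMatrix b B *
      LinearMap.toMatrix b b h.toLinearMap) = cf (LinearMap.BilinForm.toMatrix b B) := by
  rw [← LinearMap.BilinForm.toMatrix_comp b b]
  subst hB
  have hcf : ∀ (C : LinearMap.BilinForm A M) (i j : Fin n), cf (LinearMap.BilinForm.toMatrix b C) (Sym2.mk i j) =
      if i = j then C.toQuadraticMap (b i) else QuadraticMap.polar C.toQuadraticMap (b i) (b j) := by
    intro C i j
    simp only [cf_mk, LinearMap.BilinForm.toMatrix_apply, LinearMap.BilinMap.toQuadraticMap_apply,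
      LinearMap.BilinMap.polar_toQuadraticMap]
  constructor
  · intro hh
    funext z
    induction z using Sym2.inductionOn with
    | hf i j =>
      rw [hcf, hcf, show (LinearMap.BilinForm.comp B h.toLinearMap h.toLinearMap).toQuadraticMap = B.toQuadraticMap from
        QuadraticMap.ext hh]
  · intro hc
    have e : (LinearMap.BilinForm.comp B h.toLinearMap h.toLinearMap).toQuadraticMap = B.toQuadraticMap := by
      refine quadForm_ext b (fun i => ?_) fun i j => ?_
      · have := congrFun hc (Sym2.mk i i)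
        rwa [hcf, hcf, if_pos rfl, if_pos rfl] at this
      · rcases eq_or_ne i j with rfl | hij
        · have := congrFun hc (Sym2.mk i i)
          rw [hcf, hcf, if_pos rfl, if_pos rfl] at this
          rw [QuadraticMap.polar_self, QuadraticMap.polar_self, this]
        · have := congrFun hc (Sym2.mk i j)
          rwa [hcf, hcf, if_neg hij, if_neg hij] at this
    exact fun v => DFunLike.congr_fun e v

theorem bcForm_lift (A : Type u) [CommRing A] [Algebra R A] :
    ∃ B : LinearMap.BilinForm A (A ⊗[R] (Fin n → R)), B.toQuadraticMap = QuadGrp.baseChangeForm A Q ∧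
      LinearMap.BilinForm.toMatrix (stdB (R := R) A) B = (betaM Q).map (algebraMap R A) := by
  refine ⟨Matrix.toBilin (stdB (R := R) A) ((betaM Q).map (algebraMap R A)), ?_, LinearMap.BilinForm.toMatrix_toBilin _ _⟩
  refine QuadraticMap.ext fun x => ?_
  rw [LinearMap.BilinMap.toQuadraticMap_apply, Matrix.toBilin_apply]
  conv_rhs => rw [← (stdB (R := R) A).sum_repr x, bcForm_sum]
  refine Finset.sum_congr rfl fun i _ => Finset.sum_congr rfl fun j _ => ?_
  rw [Matrix.map_apply, betaM, Matrix.of_apply]
  ring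

theorem mem_orth_iff_ok (A : Type u) [CommRing A] [Algebra R A]
    (h : (A ⊗[R] (Fin n → R)) ≃ₗ[A] (A ⊗[R] (Fin n → R))) :
    h ∈ QuadGrp.orth Q A ↔ OK (betaM Q) false A (LinearMap.toMatrix (stdB A) (stdB A) h.toLinearMap) := by
  obtain ⟨B, hB, hBm⟩ := bcForm_lift Q A
  rw [mem_orth_iff, mem_O_iff_cf (stdB (R := R) A) _ B hB h, hBm]
  exact ⟨fun e => ⟨LinearEquiv.isUnit_det h _ _, e, fun hs => absurd hs (by decide)⟩, fun e => e.2.1⟩

theorem mem_sorth'_iff_ok (A : Type u) [CommRing A] [Algebra R A]
    (h : (A ⊗[R] (Fin n → R)) ≃ₗ[A] (A ⊗[R] (Fin n → R))) :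
    h ∈ QuadGrp.sorth' Q A ↔ OK (betaM Q) true A (LinearMap.toMatrix (stdB A) (stdB A) h.toLinearMap) := by
  have hd : LinearEquiv.det h = 1 ↔ (LinearMap.toMatrix (stdB A) (stdB A) h.toLinearMap).det = 1 := by
    rw [LinearMap.det_toMatrix, ← LinearEquiv.coe_det, Units.val_eq_one]
  constructor
  · rintro ⟨h1, h2⟩
    have := (mem_orth_iff_ok Q A h).1 h1
    exact ⟨this.1, this.2.1, fun _ => hd.1 (MonoidHom.mem_ker.1 h2)⟩
  · intro e
    exact ⟨(mem_orth_iff_ok Q A h).2 ⟨e.1, e.2.1, fun hs => absurd hs (by decide)⟩, MonoidHom.mem_ker.2 (hd.2 (e.2.2 rfl))⟩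

theorem repr_rTensor {A B : Type u} [CommRing A] [CommRing B] [Algebra R A] [Algebra R B] (φ : A →ₐ[R] B)
    (x : A ⊗[R] (Fin n → R)) (i : Fin n) :
    (stdB (R := R) B).repr (LinearMap.rTensor (Fin n → R) φ.toLinearMap x) i = φ ((stdB (R := R) A).repr x i) := by
  induction x using TensorProduct.induction_on with
  | zero => simp
  | tmul a v =>
    simp only [LinearMap.rTensor_tmul, stdB, Algebra.TensorProduct.basis_repr_tmul, Finsupp.smul_apply,
      Finsupp.mapRange_apply, AlgHom.toLinearMap_apply, smul_eq_mul, map_mul, AlgHom.commutes]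
  | add x y hx hy => simp only [map_add, Finsupp.add_apply, hx, hy]

variable (S : ∀ (A : Type u) [CommRing A] [Algebra R A], Subgroup ((A ⊗[R] (Fin n → R)) ≃ₗ[A] (A ⊗[R] (Fin n → R))))
variable (G : Over (Spec (CommRingCat.of R))) [GrpObj G]

/-- Smoothness of a representing scheme is the lifting property for isometry matrices. -/
theorem smooth_iff_lift (D : QuadGrp.LinRep R (Fin n → R) S G) (β : Matrix (Fin n) (Fin n) R) (s : Bool)
    (hS : ∀ (A : Type u) [CommRing A] [Algebra R A] (h : (A ⊗[R] (Fin n → R)) ≃ₗ[A] (A ⊗[R] (Fin n → R))),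
      h ∈ S A ↔ OK β s A (LinearMap.toMatrix (stdB A) (stdB A) h.toLinearMap)) :
    AlgebraicGeometry.Smooth G.hom ↔ ∀ (A : Type u) [CommRing A] [Algebra R A] (I : Ideal A), I ^ 2 = ⊥ →
      ∀ Gb, OK β s (A ⧸ I) Gb → ∃ Gm, OK β s A Gm ∧ Gm.map (Ideal.Quotient.mk I) = Gb := by
  classical
  set C := Coord β s
  have hU := univMat_ok β s
  let h0 : (C ⊗[R] (Fin n → R)) ≃ₗ[C] (C ⊗[R] (Fin n → R)) := Matrix.toLinearEquiv (stdB C) (univMat β s) hU.1
  have h0m : LinearMap.toMatrix (stdB C) (stdB C) h0.toLinearMap = univMat β s := LinearMap.toMatrix_toLin _ _ _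
  have hmem : h0 ∈ S C := (hS C h0).2 (by rw [h0m]; exact hU)
  let e0 : ↥(S C) := ⟨h0, hmem⟩
  let u : QuadGrp.specOver R C ⟶ G := MulEquiv.symm (D.pts C) e0
  have hnat : ∀ (A : Type u) [CommRing A] [Algebra R A] (φ : C →ₐ[R] A),
      LinearMap.toMatrix (stdB A) (stdB A) ((D.pts A (QuadGrp.specOverMap R φ ≫ u) : ↥(S A)) : (A ⊗[R] (Fin n → R)) ≃ₗ[A] (A ⊗[R] (Fin n → R))).toLinearMap =
        (univMat β s).map φ := by
    intro A _ _ φ
    ext i j
    rw [LinearMap.toMatrix_apply, Matrix.map_apply, stdB_apply, LinearEquiv.coe_toLinearMap, D.natural C A φ u,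
      repr_rTensor, MulEquiv.apply_symm_apply]
    congr 1
    have := congrFun (congrFun h0m i) j
    rwa [LinearMap.toMatrix_apply, stdB_apply] at this
  have hpts : ∀ (A : Type u) [CommRing A] [Algebra R A],
      Function.Bijective fun y : QuadGrp.specOver R A ⟶ QuadGrp.specOver R C => y ≫ u := by
    intro A _ _
    have hy : ∀ y : QuadGrp.specOver R A ⟶ QuadGrp.specOver R C, ∃ φ : C →ₐ[R] A, y = QuadGrp.specOverMap R φ := by
      intro y
      obtain ⟨f, hf⟩ := Spec.map_surjective y.left
      have hw := Over.w y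
      change y.left ≫ Spec.map _ = Spec.map _ at hw
      have hw2 : Spec.map (CommRingCat.ofHom (algebraMap R C) ≫ f) = Spec.map (CommRingCat.ofHom (algebraMap R A)) :=
        (Spec.map_comp _ _).trans ((congrArg (fun e => e ≫ Spec.map (CommRingCat.ofHom (algebraMap R C))) hf).trans hw)
      have hw' := CommRingCat.hom_ext_iff.1 (Spec.map_injective hw2)
      exact ⟨⟨f.hom, fun r => RingHom.congr_fun hw' r⟩, Over.OverMorphism.ext hf.symm⟩
    constructor
    · intro y y' hyy
      obtain ⟨φ, rfl⟩ := hy y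
      obtain ⟨φ', rfl⟩ := hy y'
      have h1 := hnat A φ
      rw [show QuadGrp.specOverMap R φ ≫ u = QuadGrp.specOverMap R φ' ≫ u from hyy, hnat A φ'] at h1
      rw [coord_ext β s h1.symm]
    · intro g
      obtain ⟨φ, hφ⟩ := exists_hom β s ((hS A _).1 (D.pts A g).2)
      refine ⟨QuadGrp.specOverMap R φ, (D.pts A).injective (Subtype.ext (LinearEquiv.toLinearMap_injective
        ((LinearMap.toMatrix (stdB A) (stdB A)).injective ((hnat A φ).trans hφ))))⟩
  have := isIso_of_points u hpts
  have hw : u.left ≫ G.hom = Spec.map (CommRingCat.ofHom (algebraMap R C)) := Over.w u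
  have hcancel : AlgebraicGeometry.Smooth G.hom ↔ AlgebraicGeometry.Smooth (u.left ≫ G.hom) :=
    ⟨fun _ => inferInstance, fun _ => IsIso.inv_hom_id_assoc u.left G.hom ▸ inferInstance⟩
  rw [← formallySmooth_coord_iff, hcancel, hw]
  refine (HasRingHomProperty.Spec_iff (P := @AlgebraicGeometry.Smooth.{u}) (φ := CommRingCat.ofHom (algebraMap R C))).trans ?_
  rw [CommRingCat.hom_ofHom, RingHom.smooth_algebraMap]
  exact ⟨fun h => h.formallySmooth, fun h => ⟨h, inferInstance⟩⟩

end Mat

end Groth.Misc12.Quad
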