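import Groth.Agent.Misc12.Quad.Lift
import Groth.Agent.Misc12.RelDim
import Mathlib.Data.Sym.Card

/-!
The tangent spaces of orthogonal and special orthogonal groups have dimension `n (n - 1) / 2`.
-/

set_option autoImplicit false
set_option maxHeartbeats 400000
set_option linter.unusedSectionVars false

noncomputable section

universe u

open scoped DualNumber

open scoped Matrix
namespace Groth.Misc12.Quad.Tangent

open Groth.Misc12.Quad Groth.Misc12.RelDim

variable {K : Type u} [Field K] {n : ℕ}

/-- The linearised equations of the orthogonal (`s = false`) or special orthogonal (`s = true`) group. -/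
def lin (γ : Matrix (Fin n) (Fin n) K) (s : Bool) :
    Matrix (Fin n) (Fin n) K →ₗ[K] (Sym2 (Fin n) → K) × K where
  toFun H := (cf ((γ + γᵀ) * H), if s then H.trace else 0)
  map_add' X Y := by
    refine Prod.ext ?_ ?_
    · rw [Prod.fst_add, Matrix.mul_add, cf_add]
    · cases s <;> simp [Matrix.trace_add]
  map_smul' a X := by
    refine Prod.ext ?_ ?_
    · rw [Matrix.mul_smul, cf_smul]; rfl
    · cases s <;> simp [Matrix.trace_smul]

theorem lin_eq_zero_iff (γ : Matrix (Fin n) (Fin n) K) (s : Bool) (H : Matrix (Fin n) (Fin n) K) :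
    lin γ s H = 0 ↔ cf ((γ + γᵀ) * H) = 0 ∧ (s = true → H.trace = 0) := by
  cases s <;> simp [lin, Prod.ext_iff]

theorem two_mul_finrank_ker (γ : Matrix (Fin n) (Fin n) K) (s : Bool) (d : ℕ) (hd' : 2 * d + n = n * n)
    (hrank : Module.finrank K (LinearMap.range (lin γ s)) = Fintype.card (Sym2 (Fin n))) :
    Module.finrank K (LinearMap.ker (lin γ s)) = d := by
  have h := (lin γ s).finrank_range_add_finrank_ker
  rw [hrank, Module.finrank_matrix, Module.finrank_self, Fintype.card_fin, mul_one, Sym2.card, Fintype.card_fin,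
    Nat.choose_two_right] at h
  have he : 2 * ((n + 1) * (n + 1 - 1) / 2) = n * n + n := by
    rw [Nat.mul_div_cancel' (even_iff_two_dvd.1 (by rw [Nat.add_sub_cancel, mul_comm]; exact Nat.even_mul_succ_self n))]
    rw [Nat.add_sub_cancel]; ring
  omega

theorem finrank_range_false {γ : Matrix (Fin n) (Fin n) K} (hP : IsUnit (γ + γᵀ).det) :
    Module.finrank K (LinearMap.range (lin γ false)) = Fintype.card (Sym2 (Fin n)) := by
  have : LinearMap.range (lin γ false) = LinearMap.range (LinearMap.inl K (Sym2 (Fin n) → K) K) := by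
    refine le_antisymm ?_ ?_
    · rintro _ ⟨H, rfl⟩
      exact ⟨cf ((γ + γᵀ) * H), rfl⟩
    · rintro _ ⟨t, rfl⟩
      exact ⟨(γ + γᵀ)⁻¹ * upper t, Prod.ext (by
        change cf ((γ + γᵀ) * _) = t
        rw [Matrix.mul_nonsing_inv_cancel_left _ _ hP, cf_upper]) rfl⟩
  rw [this, LinearMap.finrank_range_of_inj LinearMap.inl_injective, Module.finrank_fintype_fun_eq_card]

theorem ε_mul (a b : K) : (TrivSqZeroExt.inr a : K[ε]) * TrivSqZeroExt.inr b = 0 := TrivSqZeroExt.inr_mul_inr _ _ _

/-- `ε`. -/
def eps (K : Type u) [Field K] : K[ε] := TrivSqZeroExt.inr 1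

/-- The constants. -/
def inlK (K : Type u) [Field K] : K →+* K[ε] := TrivSqZeroExt.inlHom K K

@[simp] theorem fst_eps : (eps K).fst = 0 := TrivSqZeroExt.fst_inr _ _
@[simp] theorem snd_eps : (eps K).snd = 1 := TrivSqZeroExt.snd_inr _ _
@[simp] theorem fst_inlK (a : K) : (inlK K a).fst = a := TrivSqZeroExt.fst_inl _ _
@[simp] theorem snd_inlK (a : K) : (inlK K a).snd = 0 := TrivSqZeroExt.snd_inl _ _

theorem eps_mul_eps : eps K * eps K = 0 := ε_mul 1 1

section Gen

variable {F A : Type u} [CommRing F] [CommRing A] (f : F →+* A) (e : A) (he : e * e = 0)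

theorem span_sq (he : e * e = 0) : Ideal.span {e} ^ 2 = ⊥ := by
  rw [pow_two, Ideal.span_singleton_mul_span_singleton, he, Ideal.span_singleton_eq_bot]

theorem smul_mem_span (X : Matrix (Fin n) (Fin n) F) (a b : Fin n) : (e • X.map f) a b ∈ Ideal.span {e} := by
  rw [Matrix.smul_apply, smul_eq_mul]
  exact Ideal.mul_mem_right _ _ (Ideal.mem_span_singleton_self e)

include he in
theorem det_one_add_eps (Y : Matrix (Fin n) (Fin n) F) : (1 + e • Y.map f).det = 1 + e * f Y.trace := by
  rw [det_one_add_of_mem (span_sq e he) (smul_mem_span f e Y), Matrix.trace_smul, smul_eq_mul]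
  exact congrArg (fun t => 1 + e * t) (AddMonoidHom.map_trace f.toAddMonoidHom Y).symm

include he in
theorem cf_conj_eps (γ X : Matrix (Fin n) (Fin n) F) :
    cf ((1 + e • X.map f)ᵀ * γ.map f * (1 + e • X.map f)) =
      cf (γ.map f) + e • (fun z => f (cf ((γ + γᵀ) * X) z)) := by
  rw [conj_one_add (span_sq e he) (smul_mem_span f e X), Matrix.mul_smul, cf_smul, ← cf_map, Matrix.map_mul,
    Matrix.map_add _ (map_add f), Matrix.transpose_map]

include he in
theorem cf_mul_conj_eps (β G H : Matrix (Fin n) (Fin n) F) :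
    cf ((G.map f * (1 + e • H.map f))ᵀ * β.map f * (G.map f * (1 + e • H.map f))) =
      cf ((Gᵀ * β * G).map f) + e • (fun z => f (cf ((Gᵀ * β * G + (Gᵀ * β * G)ᵀ) * H) z)) := by
  rw [← cf_conj_eps f e he]
  congr 1
  simp only [Matrix.transpose_mul, Matrix.map_mul, Matrix.transpose_map, Matrix.mul_assoc]

include he in
theorem det_mul_eps (G H : Matrix (Fin n) (Fin n) F) :
    (G.map f * (1 + e • H.map f)).det = f G.det * (1 + e * f H.trace) := by
  rw [Matrix.det_mul, det_one_add_eps f e he, f.map_det]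
  rfl

theorem map_mul_eps_smul (X Y : Matrix (Fin n) (Fin n) F) : X.map f * (e • Y.map f) = e • (X * Y).map f := by
  rw [Matrix.mul_smul, Matrix.map_mul]

end Gen

theorem finrank_range_true {γ : Matrix (Fin n) (Fin n) K} (hn : Odd n) (hγ : hd γ ≠ 0) :
    Module.finrank K (LinearMap.range (lin γ true)) = Fintype.card (Sym2 (Fin n)) := by
  obtain ⟨j, hj⟩ := hn
  have hodd : Odd n := ⟨j, hj⟩
  let i₀ : Fin n := ⟨0, by omega⟩
  set P := γ + γᵀ
  set q0 : (Sym2 (Fin n) → K) × K := (cf γ - (j : K) • cf (P * Matrix.single i₀ i₀ 1), 0)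
  have hnot : q0 ∉ LinearMap.range (lin γ true) := by
    rintro ⟨H₀, h0⟩
    obtain ⟨h1, h2⟩ : cf (P * H₀) = cf γ - (j : K) • cf (P * Matrix.single i₀ i₀ 1) ∧ H₀.trace = 0 :=
      ⟨congrArg Prod.fst h0, congrArg Prod.snd h0⟩
    set f := inlK K with hf
    set e := eps K with he
    set γ' := γ.map f
    have hee : e * e = 0 := eps_mul_eps
    have key := cf_conj_eps f e hee γ
    have hdet : ∀ Y : Matrix (Fin n) (Fin n) K, (1 + e • Y.map f).det = 1 + e * f Y.trace := det_one_add_eps f e hee
    set E := Matrix.single i₀ i₀ (1 : K)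
    set X := -((j : K) • E)
    have hX : (cf (P * X)) = -((j : K) • cf (P * E)) := by
      rw [show X = (-(j : K)) • E from (neg_smul _ _).symm, Matrix.mul_smul, cf_smul, neg_smul]
    have h3 : hd ((1 + e • H₀.map f)ᵀ * γ' * (1 + e • H₀.map f)) =
        hd ((1 + e) • ((1 + e • X.map f)ᵀ * γ' * (1 + e • X.map f))) := by
      refine hd_eq_of_cf ?_
      rw [cf_smul, key, key, h1, hX, cf_map]
      funext z
      simp only [Pi.add_apply, Pi.smul_apply, Pi.sub_apply, Pi.neg_apply, smul_eq_mul, map_sub, map_neg, map_mul]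
      linear_combination (f (j : K) * f (cf (P * E) z)) * hee
    have hpow : ∀ k : ℕ, (1 + e) ^ k = 1 + (k : K[ε]) * e := by
      intro k
      induction k with
      | zero => simp
      | succ k ih => rw [pow_succ, ih]; push_cast; linear_combination (k : K[ε]) * hee
    rw [hd_conj hodd, hd_smul hodd, hd_conj hodd, hdet, hdet, h2, map_zero, mul_zero, add_zero, one_pow, one_mul,
      Matrix.trace_neg, Matrix.trace_smul, Matrix.trace_single_eq_same, smul_eq_mul, mul_one, map_neg, map_natCast,
      hpow, hd_map] at h3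
    have hn' : (n : K[ε]) = 2 * (j : K[ε]) + 1 := by rw [hj]; push_cast; ring
    rw [hn'] at h3
    have h4 : e * f (hd γ) = 0 := by
      linear_combination (-1 : K[ε]) * h3 + ((2 * (2 * (j : K[ε]) + 1) * (j : K[ε]) - (j : K[ε]) ^ 2 - (2 * (j : K[ε]) + 1) * (j : K[ε]) ^ 2 * e) * f (hd γ)) * hee
    have h5 := congrArg TrivSqZeroExt.snd h4
    simp [hf, he] at h5
    exact hγ h5
  have htop : LinearMap.range (lin γ true) ⊔ K ∙ q0 = ⊤ := by
    rw [eq_top_iff]
    rintro ⟨t, τ⟩ -
    obtain ⟨H, c, h1, h2⟩ := surj_obstruction hodd (IsUnit.mk0 _ hγ) hj i₀ t τ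
    refine Submodule.mem_sup.2 ⟨_, ⟨H, rfl⟩, c • q0, Submodule.mem_span_singleton.2 ⟨c, rfl⟩, Prod.ext ?_ ?_⟩
    · exact h1
    · change H.trace + c * 0 = τ
      rw [mul_zero, add_zero, h2]
  have hne : q0 ≠ 0 := fun h => hnot (h ▸ zero_mem _)
  have hdisj : LinearMap.range (lin γ true) ⊓ K ∙ q0 = ⊥ :=
    disjoint_iff.1 (Submodule.disjoint_span_singleton_of_notMem hnot)
  have h := Submodule.finrank_sup_add_finrank_inf_eq (LinearMap.range (lin γ true)) (K ∙ q0)
  rw [htop, hdisj, finrank_top, finrank_bot, finrank_span_singleton hne, Module.finrank_prod,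
    Module.finrank_fintype_fun_eq_card, Module.finrank_self] at h
  omega

/-! ### Derivations -/

variable {R : Type u} [CommRing R] (β : Matrix (Fin n) (Fin n) R) (s : Bool)
  [Algebra R K] [Algebra (Coord β s) K] [IsScalarTower R (Coord β s) K]

/-- The derivations of the coordinate ring at a point are the tangent vectors of the group. -/
theorem exists_equiv :
    ∃ γ : Matrix (Fin n) (Fin n) K, cf γ = cf (β.map (algebraMap R K)) ∧
      Nonempty (Derivation R (Coord β s) K ≃ₗ[K] LinearMap.ker (lin γ s)) := by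
  classical
  let φ := IsScalarTower.toAlgHom R (Coord β s) K
  set G := (univMat β s).map φ
  have hG : OK β s K G := (univMat_ok β s).map β s φ
  set βK := β.map (algebraMap R K)
  set γ := Gᵀ * βK * G
  refine ⟨γ, hG.2.1, ?_⟩
  set Gi := G⁻¹
  have hGG : G * Gi = 1 := Matrix.mul_nonsing_inv _ hG.1
  set f := inlK K with hf
  set e := eps K with he
  let lift : Matrix (Fin n) (Fin n) K → Matrix (Fin n) (Fin n) K[ε] := fun H => G.map f * (1 + e • H.map f)
  have hee : e * e = 0 := eps_mul_eps
  have hmulf : ∀ X Y : Matrix (Fin n) (Fin n) K, X.map f * (e • Y.map f) = e • (X * Y).map f := map_mul_eps_smul f e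
  have hfst : ∀ H a b, (lift H a b).fst = G a b := fun H a b => by
    simp only [lift, Matrix.mul_add, Matrix.mul_one, hmulf, Matrix.add_apply, Matrix.smul_apply, Matrix.map_apply, smul_eq_mul]
    simp [hf, he]
  have hsnd : ∀ H a b, (lift H a b).snd = (G * H) a b := fun H a b => by
    simp only [lift, Matrix.mul_add, Matrix.mul_one, hmulf, Matrix.add_apply, Matrix.smul_apply, Matrix.map_apply, smul_eq_mul]
    simp [hf, he]
  have hfβ : β.map (algebraMap R K[ε]) = βK.map f := by
    ext a b <;> simp [βK, hf, TrivSqZeroExt.algebraMap_eq_inl']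
  have hlift : ∀ H, OK β s K[ε] (lift H) ↔ lin γ s H = 0 := by
    intro H
    have hc : cf ((lift H)ᵀ * β.map (algebraMap R K[ε]) * lift H) =
        cf (β.map (algebraMap R K[ε])) + e • fun z => f (cf ((γ + γᵀ) * H) z) := by
      rw [hfβ, cf_mul_conj_eps f e hee βK G H, cf_map, cf_map, show cf γ = cf βK from hG.2.1]
    have hd' : (lift H).det = f G.det * (1 + e * f H.trace) := det_mul_eps f e hee G H
    have hu : IsUnit (lift H).det := by
      rw [hd']
      refine (hG.1.map f).mul (TrivSqZeroExt.isUnit_iff_isUnit_fst.2 ?_)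
      simp [he]
    rw [lin_eq_zero_iff, OK, hc]
    constructor
    · rintro ⟨-, h1, h2⟩
      refine ⟨funext fun z => ?_, fun hs => ?_⟩
      · have := congrArg TrivSqZeroExt.snd (congrFun h1 z)
        simpa [hf, he] using this
      · have h3 := h2 hs
        rw [hd', hG.2.2 hs, map_one, one_mul] at h3
        have := congrArg TrivSqZeroExt.snd h3
        simpa [hf, he] using this
    · rintro ⟨h1, h2⟩
      refine ⟨hu, ?_, fun hs => ?_⟩
      · funext z
        simp [h1]
      · rw [hd', hG.2.2 hs, h2 hs]; simp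
  have hD : ∀ D : Derivation R (Coord β s) K, (univMat β s).map (toDual D) = lift (Gi * (univMat β s).map D) := by
    intro D
    refine Matrix.ext fun a b => TrivSqZeroExt.ext ?_ ?_
    · rw [hfst, Matrix.map_apply, fst_toDual]; rfl
    · rw [hsnd, ← Matrix.mul_assoc, hGG, Matrix.one_mul, Matrix.map_apply, snd_toDual, Matrix.map_apply]
  let L : Derivation R (Coord β s) K →ₗ[K] LinearMap.ker (lin γ s) :=
    { toFun := fun D => ⟨Gi * (univMat β s).map D, LinearMap.mem_ker.2 ((hlift _).1 (by
        rw [← hD]; exact (univMat_ok β s).map β s (toDual D)))⟩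
      map_add' := fun D D' => Subtype.ext (by
        change Gi * _ = Gi * _ + Gi * _
        rw [← Matrix.mul_add]; rfl)
      map_smul' := fun a D => Subtype.ext (by
        change Gi * _ = a • (Gi * _)
        rw [← Matrix.mul_smul]; rfl) }
  refine ⟨LinearEquiv.ofBijective L ⟨fun D D' h => ?_, fun H => ?_⟩⟩
  · have h' : (univMat β s).map (toDual D) = (univMat β s).map (toDual D') := by
      rw [hD, hD]; exact congrArg lift (congrArg Subtype.val h)
    refine Derivation.ext fun c => ?_
    rw [← snd_toDual D, coord_ext β s h', snd_toDual]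
  · obtain ⟨ψ, hψ⟩ := exists_hom β s ((hlift H.1).2 (LinearMap.mem_ker.1 H.2))
    have hc : (TrivSqZeroExt.fstHom R K K).comp ψ = φ := coord_ext β s (Matrix.ext fun a b => by
      change (ψ (univMat β s a b)).fst = G a b
      rw [← hfst H.1 a b]
      exact congrArg TrivSqZeroExt.fst (congrFun (congrFun hψ a) b))
    refine ⟨ofDual ψ fun c => DFunLike.congr_fun hc c, Subtype.ext ?_⟩
    change Gi * _ = H.1
    have : (univMat β s).map (ofDual ψ fun c => DFunLike.congr_fun hc c) = G * H.1 := by
      refine Matrix.ext fun a b => ?_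
      rw [Matrix.map_apply, ofDual_apply, ← hsnd]
      exact congrArg TrivSqZeroExt.snd (congrFun (congrFun hψ a) b)
    rw [this, ← Matrix.mul_assoc, Matrix.nonsing_inv_mul _ hG.1, Matrix.one_mul]

theorem finrank_false (d : ℕ) (hd' : 2 * d + n = n * n) (hP : IsUnit (β + βᵀ).det) [Algebra (Coord β false) K]
    [IsScalarTower R (Coord β false) K] : Module.finrank K (Derivation R (Coord β false) K) = d := by
  obtain ⟨γ, hγ, ⟨e⟩⟩ := exists_equiv (K := K) β false
  refine e.finrank_eq.trans (two_mul_finrank_ker γ false d hd' (finrank_range_false ?_))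
  rw [symm_eq_of_cf hγ, ← Matrix.transpose_map, ← Matrix.map_add _ (map_add (algebraMap R K)),
    ← RingHom.mapMatrix_apply, ← RingHom.map_det]
  exact hP.map _

theorem finrank_true (hn : Odd n) (d : ℕ) (hd' : 2 * d + n = n * n) (hβ : IsUnit (hd β)) [Algebra (Coord β true) K]
    [IsScalarTower R (Coord β true) K] : Module.finrank K (Derivation R (Coord β true) K) = d := by
  obtain ⟨γ, hγ, ⟨e⟩⟩ := exists_equiv (K := K) β true
  refine e.finrank_eq.trans (two_mul_finrank_ker γ true d hd' (finrank_range_true hn ?_))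
  rw [hd_eq_of_cf hγ, hd_map]
  exact (hβ.map _).ne_zero

end Groth.Misc12.Quad.Tangent
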